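import Cfsg.Agent.H41.Borel
import Cfsg.Agent.H4.CardSL
import Cfsg.Prelude.Def_Characters

set_option autoImplicit false
set_option linter.unusedSimpArgs false

open Matrix

namespace Cfsg.Agent.H41

variable {F : Type*} [Field F]

theorem card_sl2' [Fintype F] :
    Nat.card (Matrix.SpecialLinearGroup (Fin 2) F) = (Fintype.card F + 1) * ((Fintype.card F - 1) * Fintype.card F) := by
  have h1 := Cfsg.Agent.H4.card_SL_mul (F := F) 2 (by norm_num)
  have hq : 1 < Fintype.card F := Fintype.one_lt_card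
  rw [Matrix.card_GL_field, Fin.prod_univ_two] at h1
  simp only [Fin.val_zero, pow_zero, Fin.val_one, pow_one] at h1
  generalize Nat.card (Matrix.SpecialLinearGroup (Fin 2) F) = N at *
  generalize Fintype.card F = q at *
  obtain ⟨r, rfl⟩ : ∃ r, q = r + 1 := ⟨q - 1, by omega⟩
  have hr : 0 < r := by omega
  apply Nat.eq_of_mul_eq_mul_left (show 0 < r + 1 - 1 by omega)
  rw [h1]
  have e1 : (r + 1) ^ 2 - (r + 1) = r * (r + 1) := by
    rw [Nat.sub_eq_iff_eq_add (by nlinarith)]; ring
  have e2 : (r + 1) ^ 2 - 1 = r * (r + 2) := by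
    rw [Nat.sub_eq_iff_eq_add (by nlinarith)]; ring
  rw [e1, e2, Nat.add_sub_cancel]
  ring

/-- The function `b ↦ α(b₁₁)` on the Borel subgroup. -/
noncomputable abbrev bchar (α : MulChar F ℂ) : borel F → ℂ :=
  fun b => α (((b : Matrix.SpecialLinearGroup (Fin 2) F) : Matrix (Fin 2) (Fin 2) F) 0 0)

theorem extendByZero_bchar [DecidableEq F] (α : MulChar F ℂ) (y : Matrix.SpecialLinearGroup (Fin 2) F) :
    Cfsg.extendByZero (borel F) (bchar α) y = if y 1 0 = 0 then α (y 0 0) else 0 := by
  unfold Cfsg.extendByZero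
  split_ifs with h
  · have := Function.Injective.extend_apply (Subtype.val_injective (p := fun g => g ∈ borel F)) (bchar α) 0
      ⟨y, mem_borel_iff.mpr h⟩
    exact this
  · rw [Function.extend_apply']
    · rfl
    · rintro ⟨b, rfl⟩
      exact h (mem_borel_iff.mp b.2)

variable [Fintype F] [DecidableEq F]

/-- The principal series. -/
noncomputable abbrev R (α : MulChar F ℂ) : Matrix.SpecialLinearGroup (Fin 2) F → ℂ :=
  Cfsg.indFun (borel F) (bchar α)

theorem R_apply (α : MulChar F ℂ) (g : Matrix.SpecialLinearGroup (Fin 2) F) :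
    R α g = (Nat.card (borel F) : ℂ)⁻¹ * ∑ x : Matrix.SpecialLinearGroup (Fin 2) F,
      if (x⁻¹ * g * x) 1 0 = 0 then α ((x⁻¹ * g * x) 0 0) else 0 := by
  unfold R Cfsg.indFun
  simp only [extendByZero_bchar]

theorem conj_10 (g x : Matrix.SpecialLinearGroup (Fin 2) F) :
    (x⁻¹ * g * x) 1 0 = g 1 0 * x 0 0 ^ 2 + (g 1 1 - g 0 0) * x 0 0 * x 1 0 - g 0 1 * x 1 0 ^ 2 := by
  simp only [mul_00, mul_01, mul_10, mul_11, inv_00, inv_01, inv_10, inv_11]
  ring

theorem conj_00 (g x : Matrix.SpecialLinearGroup (Fin 2) F) :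
    (x⁻¹ * g * x) 0 0 = x 1 1 * (g 0 0 * x 0 0 + g 0 1 * x 1 0) - x 0 1 * (g 1 0 * x 0 0 + g 1 1 * x 1 0) := by
  simp only [mul_00, mul_01, mul_10, mul_11, inv_00, inv_01, inv_10, inv_11]
  ring

theorem card_filter_10 : (Finset.univ.filter fun x : Matrix.SpecialLinearGroup (Fin 2) F => x 1 0 = 0).card =
    Nat.card (borel F) := by
  rw [← Fintype.card_subtype, ← Nat.card_eq_fintype_card]
  exact Nat.card_congr (Equiv.subtypeEquivRight fun x => mem_borel_iff.symm)

theorem card_filter_00 : (Finset.univ.filter fun x : Matrix.SpecialLinearGroup (Fin 2) F => x 0 0 = 0).card =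
    Nat.card (borel F) := by
  rw [← card_filter_10]
  refine Finset.card_bij (fun x _ => mk4 0 (-1) 1 0 (by ring) * x) ?_ ?_ ?_
  · intro x hx
    rw [Finset.mem_filter] at hx ⊢
    refine ⟨Finset.mem_univ _, ?_⟩
    simp only [mul_10, mk4_10, mk4_11]
    rw [hx.2]; ring
  · intro x _ y _ h
    exact mul_left_cancel h
  · intro y hy
    rw [Finset.mem_filter] at hy
    refine ⟨(mk4 0 (-1) 1 0 (by ring))⁻¹ * y, ?_, by group⟩
    rw [Finset.mem_filter]
    refine ⟨Finset.mem_univ _, ?_⟩
    simp only [mul_00, inv_00, inv_01, mk4_11, mk4_01]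
    rw [hy.2]; ring

omit [DecidableEq F] in
theorem borel_card_ne_zero : (Nat.card (borel F) : ℂ) ≠ 0 := by
  have : 0 < Nat.card (borel F) := Nat.card_pos
  exact_mod_cast this.ne'

theorem R_diag (α : MulChar F ℂ) (g : Matrix.SpecialLinearGroup (Fin 2) F) (h01 : g 0 1 = 0) (h10 : g 1 0 = 0)
    (hne : g 0 0 ^ 2 ≠ 1) : R α g = α (g 0 0) + α (g 1 1) := by
  have hd := det_eq g
  rw [h01, h10] at hd
  have hdiff : g 1 1 - g 0 0 ≠ 0 := by
    intro h
    apply hne
    have : g 1 1 = g 0 0 := by linear_combination h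
    rw [this] at hd
    linear_combination hd
  rw [R_apply]
  have hterm : ∀ x : Matrix.SpecialLinearGroup (Fin 2) F,
      (if (x⁻¹ * g * x) 1 0 = 0 then α ((x⁻¹ * g * x) 0 0) else 0) =
      (if x 1 0 = 0 then α (g 0 0) else 0) + (if x 0 0 = 0 then α (g 1 1) else 0) := by
    intro x
    have hx := det_eq x
    rw [conj_10, conj_00, h01, h10]
    by_cases h1 : x 1 0 = 0
    · have h0 : x 0 0 ≠ 0 := by
        intro h0
        rw [h1, h0] at hx; simp at hx
      rw [if_pos (by rw [h1]; ring), if_pos h1, if_neg h0, add_zero]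
      congr 1
      rw [h1] at hx ⊢
      linear_combination g 0 0 * hx
    · by_cases h0 : x 0 0 = 0
      · rw [if_pos (by rw [h0]; ring), if_neg h1, if_pos h0, zero_add]
        congr 1
        rw [h0] at hx ⊢
        linear_combination g 1 1 * hx
      · rw [if_neg, if_neg h1, if_neg h0, add_zero]
        intro h
        have : (g 1 1 - g 0 0) * (x 0 0 * x 1 0) = 0 := by linear_combination h
        rcases mul_eq_zero.mp this with h' | h'
        · exact hdiff h'
        · rcases mul_eq_zero.mp h' with h'' | h''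
          · exact h0 h''
          · exact h1 h''
  rw [Finset.sum_congr rfl (fun x _ => hterm x), Finset.sum_add_distrib, ← Finset.sum_filter,
    ← Finset.sum_filter, Finset.sum_const, Finset.sum_const, card_filter_10, card_filter_00]
  have := borel_card_ne_zero (F := F)
  simp only [nsmul_eq_mul, add_zero]
  field_simp

theorem R_noEig (α : MulChar F ℂ) (g : Matrix.SpecialLinearGroup (Fin 2) F) (hg : NoEig (tr g)) : R α g = 0 := by
  rw [R_apply]
  have hterm : ∀ x : Matrix.SpecialLinearGroup (Fin 2) F,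
      (if (x⁻¹ * g * x) 1 0 = 0 then α ((x⁻¹ * g * x) 0 0) else 0) = 0 := by
    intro x
    rw [if_neg]
    intro h
    have hd := det_eq (x⁻¹ * g * x)
    have ht : tr (x⁻¹ * g * x) = tr g := by
      have := tr_conj g x⁻¹
      rwa [inv_inv] at this
    rw [h] at hd
    apply hg ((x⁻¹ * g * x) 0 0)
    rw [← ht, tr]
    linear_combination -hd
  rw [Finset.sum_congr rfl (fun x _ => hterm x), Finset.sum_const_zero, mul_zero]

theorem R_unip (α : MulChar F ℂ) (g : Matrix.SpecialLinearGroup (Fin 2) F) (h10 : g 1 0 = 0)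
    (heq : g 0 0 = g 1 1) (h01 : g 0 1 ≠ 0) : R α g = α (g 0 0) := by
  rw [R_apply]
  have hterm : ∀ x : Matrix.SpecialLinearGroup (Fin 2) F,
      (if (x⁻¹ * g * x) 1 0 = 0 then α ((x⁻¹ * g * x) 0 0) else 0) =
      (if x 1 0 = 0 then α (g 0 0) else 0) := by
    intro x
    have hx := det_eq x
    rw [conj_10, conj_00, h10, ← heq]
    by_cases h1 : x 1 0 = 0
    · rw [if_pos (by rw [h1]; ring), if_pos h1]
      congr 1
      rw [h1] at hx ⊢
      linear_combination g 0 0 * hx
    · rw [if_neg, if_neg h1]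
      intro h
      have : g 0 1 * x 1 0 ^ 2 = 0 := by linear_combination -h
      rcases mul_eq_zero.mp this with h' | h'
      · exact h01 h'
      · exact h1 (pow_eq_zero_iff (two_ne_zero) |>.mp h')
  rw [Finset.sum_congr rfl (fun x _ => hterm x), ← Finset.sum_filter,
    Finset.sum_const, card_filter_10]
  have := borel_card_ne_zero (F := F)
  simp only [nsmul_eq_mul, add_zero]
  field_simp

theorem R_scalar (α : MulChar F ℂ) (g : Matrix.SpecialLinearGroup (Fin 2) F) (h01 : g 0 1 = 0) (h10 : g 1 0 = 0)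
    (heq : g 0 0 = g 1 1) : R α g = ((Fintype.card F : ℂ) + 1) * α (g 0 0) := by
  rw [R_apply]
  have hterm : ∀ x : Matrix.SpecialLinearGroup (Fin 2) F,
      (if (x⁻¹ * g * x) 1 0 = 0 then α ((x⁻¹ * g * x) 0 0) else 0) = α (g 0 0) := by
    intro x
    have hx := det_eq x
    rw [conj_10, conj_00, h10, h01, ← heq]
    rw [if_pos (by ring)]
    congr 1
    linear_combination g 0 0 * hx
  rw [Finset.sum_congr rfl (fun x _ => hterm x), Finset.sum_const, Finset.card_univ, ← Nat.card_eq_fintype_card,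
    card_sl2', card_borel, Nat.card_eq_fintype_card]
  have hq : 1 < Fintype.card F := Fintype.one_lt_card
  have h1 : ((Fintype.card F - 1 : ℕ) : ℂ) ≠ 0 := by
    have : 0 < Fintype.card F - 1 := by omega
    exact_mod_cast this.ne'
  have h2 : (Fintype.card F : ℂ) ≠ 0 := by
    have : 0 < Fintype.card F := by omega
    exact_mod_cast this.ne'
  simp only [nsmul_eq_mul]
  push_cast [Nat.cast_mul, Nat.cast_add, Nat.cast_one]
  field_simp

end Cfsg.Agent.H41
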