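import Cfsg.Agent.H41.TorusNorm

set_option autoImplicit false
set_option linter.unusedSimpArgs false
set_option linter.style.haveILetI false
set_option linter.unusedSectionVars false

open Matrix Polynomial

namespace Cfsg.Agent.H41

theorem centralizer_conj_eq_map {G : Type*} [Group G] (s P : G) :
    Subgroup.centralizer ({P * s * P⁻¹} : Set G) = (Subgroup.centralizer ({s} : Set G)).map (MulAut.conj P).toMonoidHom := by
  ext g
  rw [Subgroup.mem_centralizer_singleton_iff, Subgroup.mem_map]
  constructor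
  · intro h
    refine ⟨P⁻¹ * g * P, ?_, ?_⟩
    · rw [Subgroup.mem_centralizer_singleton_iff]
      calc P⁻¹ * g * P * s = P⁻¹ * (g * (P * s * P⁻¹)) * P := by group
        _ = P⁻¹ * ((P * s * P⁻¹) * g) * P := by rw [h]
        _ = s * (P⁻¹ * g * P) := by group
    · simp [mul_assoc]
  · rintro ⟨x, hx, rfl⟩
    rw [Subgroup.mem_centralizer_singleton_iff] at hx
    simp only [MulEquiv.coe_toMonoidHom, MulAut.conj_apply]
    calc P * x * P⁻¹ * (P * s * P⁻¹) = P * (x * s) * P⁻¹ := by group
      _ = P * (s * x) * P⁻¹ := by rw [hx]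
      _ = P * s * P⁻¹ * (P * x * P⁻¹) := by group

theorem card_centralizer_conj {G : Type*} [Group G] (s P : G) :
    Nat.card (Subgroup.centralizer ({P * s * P⁻¹} : Set G)) = Nat.card (Subgroup.centralizer ({s} : Set G)) := by
  rw [centralizer_conj_eq_map]
  exact (Nat.card_congr (Subgroup.equivMapOfInjective _ (MulAut.conj P).toMonoidHom (MulAut.conj P).injective).toEquiv).symm

theorem isCyclic_centralizer_conj {G : Type*} [Group G] (s P : G) (h : IsCyclic (Subgroup.centralizer ({s} : Set G))) :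
    IsCyclic (Subgroup.centralizer ({P * s * P⁻¹} : Set G)) := by
  rw [centralizer_conj_eq_map]
  exact isCyclic_of_surjective (Subgroup.equivMapOfInjective _ (MulAut.conj P).toMonoidHom (MulAut.conj P).injective)
    (MulEquiv.surjective _)

section

variable {F : Type*} [Field F] [Finite F]

theorem tr_spHom_sq_eq_four {u : Fˣ} (hu : u ^ 2 = 1) : tr (spHom u) ^ 2 = 4 := by
  rcases (spHom_eq_iff u).mpr hu with h | h
  · rw [h, tr_one']; norm_num
  · rw [h, tr_neg, tr_one']; norm_num

theorem tr_nsHom_sq_eq_four {K : Type*} [Field K] [Algebra F K] [Finite K]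
    (h2 : Module.finrank F K = 2) {z : normOne F K} (hz : z ^ 2 = 1) : tr (nsHom h2 z) ^ 2 = 4 := by
  rcases (nsHom_eq_iff h2 z).mpr hz with h | h
  · rw [h, tr_one']; norm_num
  · rw [h, tr_neg, tr_one']; norm_num

/-- The centralizer of a split regular element. -/
theorem centralizer_of_eig (t : Matrix.SpecialLinearGroup (Fin 2) F) (ht : tr t ^ 2 ≠ 4)
    (a : F) (ha : a ^ 2 - tr t * a + 1 = 0) :
    IsCyclic (Subgroup.centralizer ({t} : Set (Matrix.SpecialLinearGroup (Fin 2) F))) ∧
    Nat.card (Subgroup.centralizer ({t} : Set (Matrix.SpecialLinearGroup (Fin 2) F))) = Nat.card F - 1 := by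
  obtain ⟨u, P, hP⟩ := exists_conj_spHom t ht a ha
  have hu : u ^ 2 ≠ 1 := by
    intro h
    apply ht
    rw [hP, tr_conj]
    exact tr_spHom_sq_eq_four h
  rw [hP]
  constructor
  · apply isCyclic_centralizer_conj
    rw [centralizer_spHom hu]
    exact isCyclic_of_surjective (spHom (F := F)).rangeRestrict (spHom (F := F)).rangeRestrict_surjective
  · rw [card_centralizer_conj, centralizer_spHom hu, card_range_spHom]

/-- The centralizer of a non-split regular element. -/
theorem centralizer_of_noEig (t : Matrix.SpecialLinearGroup (Fin 2) F) (ht : NoEig (tr t)) :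
    IsCyclic (Subgroup.centralizer ({t} : Set (Matrix.SpecialLinearGroup (Fin 2) F))) ∧
    Nat.card (Subgroup.centralizer ({t} : Set (Matrix.SpecialLinearGroup (Fin 2) F))) = Nat.card F + 1 := by
  obtain ⟨K, _, _, _, hK⟩ := exists_quadExt F
  obtain ⟨z, P, hP⟩ := exists_conj_nsHom_of_noEig (K := K) hK t ht
  have hz : z ^ 2 ≠ 1 := by
    intro h
    apply ht.sq_ne_four
    rw [hP, tr_conj]
    exact tr_nsHom_sq_eq_four hK h
  rw [hP]
  constructor
  · apply isCyclic_centralizer_conj
    rw [centralizer_nsHom hK hz]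
    exact isCyclic_of_surjective (nsHom (F := F) (K := K) hK).rangeRestrict (nsHom hK).rangeRestrict_surjective
  · rw [card_centralizer_conj, centralizer_nsHom hK hz, card_range_nsHom]

theorem tr_sq_ne_four_of_orderOf {ℓ p : ℕ} [Fact ℓ.Prime] [Fact p.Prime] [CharP F p] (hℓ : ℓ ≠ 2) (hℓp : ℓ ≠ p)
    (t : Matrix.SpecialLinearGroup (Fin 2) F) (ht : orderOf t = ℓ) : tr t ^ 2 ≠ 4 := by
  intro h
  have hℓp' : ℓ.Prime := Fact.out
  have hpp : p.Prime := Fact.out
  obtain ⟨δ, hδ, hδ'⟩ : ∃ δ : F, δ ^ 2 = 1 ∧ tr t = 2 * δ := by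
    have h4 : (tr t - 2) * (tr t + 2) = 0 := by linear_combination h
    rcases mul_eq_zero.mp h4 with h | h
    · exact ⟨1, by ring, by linear_combination h⟩
    · exact ⟨-1, by ring, by linear_combination h⟩
  have h3 := pow_char_of_tr (p := p) t δ hδ hδ'
  have h5 : t ^ (2 * p) = 1 := by
    apply eq_of_coe
    rw [Matrix.SpecialLinearGroup.coe_pow, mul_comm, pow_mul, h3, _root_.smul_pow, one_pow, ← pow_mul, mul_comm, pow_mul, hδ]
    simp
  have h6 := orderOf_dvd_of_pow_eq_one h5
  rw [ht] at h6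
  rcases (Nat.Prime.dvd_mul hℓp').mp h6 with h7 | h7
  · exact hℓ ((Nat.prime_dvd_prime_iff_eq hℓp' Nat.prime_two).mp h7)
  · exact hℓp ((Nat.prime_dvd_prime_iff_eq hℓp' hpp).mp h7)

/-- In odd characteristic, if a nontrivial Sylow `ℓ`-subgroup `P` (ℓ odd) lies in a torus, its centralizer is the
centralizer of a regular element of order `ℓ` and the normalizers coincide. -/
theorem sylow_torus {ℓ : ℕ} [Fact ℓ.Prime] (h2 : (2 : F) ≠ 0)
    (P : Sylow ℓ (Matrix.SpecialLinearGroup (Fin 2) F)) (z : Matrix.SpecialLinearGroup (Fin 2) F)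
    (hz : tr z ^ 2 ≠ 4) (hzP : z ∈ P) (hzc : ∀ g ∈ P, g * z = z * g)
    (hcyc : IsCyclic (Subgroup.centralizer ({z} : Set (Matrix.SpecialLinearGroup (Fin 2) F)))) :
    Subgroup.centralizer ((P : Subgroup (Matrix.SpecialLinearGroup (Fin 2) F)) : Set (Matrix.SpecialLinearGroup (Fin 2) F)) =
      Subgroup.centralizer ({z} : Set (Matrix.SpecialLinearGroup (Fin 2) F)) ∧
    Subgroup.normalizer ((P : Subgroup (Matrix.SpecialLinearGroup (Fin 2) F)) : Set (Matrix.SpecialLinearGroup (Fin 2) F)) =
      Subgroup.normalizer ((Subgroup.centralizer ({z} : Set (Matrix.SpecialLinearGroup (Fin 2) F)) :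
        Subgroup (Matrix.SpecialLinearGroup (Fin 2) F)) : Set (Matrix.SpecialLinearGroup (Fin 2) F)) := by
  set T := Subgroup.centralizer ({z} : Set (Matrix.SpecialLinearGroup (Fin 2) F)) with hT
  have hPT : (P : Subgroup (Matrix.SpecialLinearGroup (Fin 2) F)) ≤ T := by
    intro g hg
    rw [hT, Subgroup.mem_centralizer_singleton_iff]
    exact hzc g hg
  have hTcomm : ∀ a ∈ T, ∀ b ∈ T, a * b = b * a := by
    intro a ha b hb
    have := (IsCyclic.isMulCommutative (α := T)).is_comm.comm ⟨a, ha⟩ ⟨b, hb⟩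
    exact congrArg Subtype.val this
  have hCP : Subgroup.centralizer ((P : Subgroup (Matrix.SpecialLinearGroup (Fin 2) F)) : Set (Matrix.SpecialLinearGroup (Fin 2) F)) = T := by
    apply le_antisymm
    · exact Subgroup.centralizer_le (by
        intro x hx
        rw [Set.mem_singleton_iff] at hx
        rw [hx]; exact hzP)
    · intro g hg
      rw [Subgroup.mem_centralizer_iff]
      intro x hx
      exact (hTcomm x (hPT hx) g hg)
  refine ⟨hCP, ?_⟩
  apply le_antisymm
  · -- N(P) ≤ N(C(P))
    intro n hn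
    have hconj : ∀ m ∈ Subgroup.normalizer ((P : Subgroup (Matrix.SpecialLinearGroup (Fin 2) F)) : Set (Matrix.SpecialLinearGroup (Fin 2) F)),
        ∀ s ∈ T, m * s * m⁻¹ ∈ T := by
      intro m hm s hs
      rw [← hCP, Subgroup.mem_centralizer_iff] at hs ⊢
      intro x hx
      have hx' : m⁻¹ * x * m ∈ (P : Subgroup (Matrix.SpecialLinearGroup (Fin 2) F)) := by
        rw [Subgroup.mem_normalizer_iff] at hm
        rw [hm]
        have : m * (m⁻¹ * x * m) * m⁻¹ = x := by group
        rw [this]; exact hx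
      have h3 := hs _ hx'
      calc x * (m * s * m⁻¹) = m * ((m⁻¹ * x * m) * s) * m⁻¹ := by group
        _ = m * (s * (m⁻¹ * x * m)) * m⁻¹ := by rw [h3]
        _ = m * s * m⁻¹ * x := by group
    rw [Subgroup.mem_normalizer_iff]
    intro s
    refine ⟨hconj n hn s, fun h => ?_⟩
    have := hconj n⁻¹ (inv_mem hn) _ h
    have e : n⁻¹ * (n * s * n⁻¹) * n⁻¹⁻¹ = s := by group
    rwa [e] at this
  · -- N(T) ≤ N(P): P is the set of ℓ-elements of T
    have hmem : ∀ s ∈ T, (s ∈ P ↔ ∃ k : ℕ, s ^ (ℓ ^ k) = 1) := by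
      intro s hs
      constructor
      · intro hsP
        obtain ⟨k, hk⟩ := P.isPGroup' ⟨s, hsP⟩
        exact ⟨k, congrArg Subtype.val hk⟩
      · rintro ⟨k, hk⟩
        -- the subgroup generated by P and s is an ℓ-group
        have hnorm : Subgroup.zpowers s ≤ Subgroup.normalizer ((P : Subgroup (Matrix.SpecialLinearGroup (Fin 2) F)) : Set (Matrix.SpecialLinearGroup (Fin 2) F)) := by
          rw [Subgroup.zpowers_le]
          rw [Subgroup.mem_normalizer_iff]
          intro x
          constructor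
          · intro hx
            have := hTcomm s hs x (hPT hx)
            rw [this, mul_inv_cancel_right]; exact hx
          · intro hx
            have h3 := hTcomm s⁻¹ (inv_mem hs) _ (hPT hx)
            have e : x = s⁻¹ * (s * x * s⁻¹) * s := by group
            rw [e, h3, inv_mul_cancel_right]; exact hx
        have hps : IsPGroup ℓ (Subgroup.zpowers s) := by
          rintro ⟨y, hy⟩
          obtain ⟨n, hn⟩ := hy
          refine ⟨k, Subtype.ext ?_⟩
          change y ^ (ℓ ^ k) = 1
          change s ^ n = y at hn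
          rw [← hn, ← zpow_natCast, zpow_comm, zpow_natCast, hk, _root_.one_zpow]
        have hsup : IsPGroup ℓ ↥((P : Subgroup (Matrix.SpecialLinearGroup (Fin 2) F)) ⊔ Subgroup.zpowers s) :=
          IsPGroup.to_sup_of_normal_left' P.isPGroup' hps hnorm
        have := P.is_maximal' hsup le_sup_left
        have h4 : s ∈ (P : Subgroup (Matrix.SpecialLinearGroup (Fin 2) F)) ⊔ Subgroup.zpowers s :=
          (le_sup_right : Subgroup.zpowers s ≤ _) (Subgroup.mem_zpowers s)
        rw [this] at h4
        exact h4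
    have hconj : ∀ m ∈ Subgroup.normalizer (T : Set (Matrix.SpecialLinearGroup (Fin 2) F)),
        ∀ s ∈ P, m * s * m⁻¹ ∈ P := by
      intro m hm s hs
      have h3 : m * s * m⁻¹ ∈ T := by
        rw [Subgroup.mem_normalizer_iff] at hm
        exact (hm s).mp (hPT hs)
      rw [hmem _ h3]
      obtain ⟨k, hk⟩ := (hmem s (hPT hs)).mp hs
      exact ⟨k, by rw [conj_pow, hk]; simp⟩
    intro n hn
    rw [Subgroup.mem_normalizer_iff]
    intro s
    refine ⟨hconj n hn s, fun h => ?_⟩
    have := hconj n⁻¹ (inv_mem hn) _ h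
    have e : n⁻¹ * (n * s * n⁻¹) * n⁻¹⁻¹ = s := by group
    rwa [e] at this

end

end Cfsg.Agent.H41
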