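import Mathlib
import Cfsg.Agent.H41.PrincSeries
import Cfsg.Agent.H41.TorusSylow

set_option autoImplicit false
set_option linter.unusedSimpArgs false

open Matrix

namespace Cfsg.Agent.H41

variable {F : Type*} [Field F]

/-- centralizer of `mk4 0 (-d⁻¹) d (2δ)` with `δ² = 1` -/
theorem card_centralizer_comp' (d δ : F) (hd : d ≠ 0) (hδ : δ ^ 2 = 1) (M : Matrix.SpecialLinearGroup (Fin 2) F)
    (h00 : M 0 0 = 0) (h01 : M 0 1 = -d⁻¹) (h10 : M 1 0 = d) (h11 : M 1 1 = 2 * δ) :
    Nat.card (Subgroup.centralizer ({M} : Set (Matrix.SpecialLinearGroup (Fin 2) F))) =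
      Nat.card {x : F // x ^ 2 = 1} * Nat.card F := by
  rw [← Nat.card_prod]
  apply Nat.card_congr
  have key : ∀ g : Matrix.SpecialLinearGroup (Fin 2) F,
      g ∈ Subgroup.centralizer ({M} : Set (Matrix.SpecialLinearGroup (Fin 2) F)) ↔
      (g 0 1 = - g 1 0 * d⁻¹ * d⁻¹ ∧ g 1 1 = g 0 0 + 2 * δ * g 1 0 * d⁻¹) := by
    intro g
    rw [Subgroup.mem_centralizer_singleton_iff]
    constructor
    · intro h
      have e1 := congrArg (fun M : Matrix.SpecialLinearGroup (Fin 2) F => M 0 0) h
      have e2 := congrArg (fun M : Matrix.SpecialLinearGroup (Fin 2) F => M 1 0) h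
      simp only [mul_00, mul_10, h00, h01, h10, h11] at e1 e2
      constructor
      · field_simp
        field_simp at e1
        linear_combination e1
      · field_simp
        linear_combination e2
    · rintro ⟨h1, h2⟩
      apply sl2_ext <;> simp only [mul_00, mul_01, mul_10, mul_11, h00, h01, h10, h11, h1, h2] <;> (field_simp; try ring)
  refine
    { toFun := fun g => (⟨(g : Matrix.SpecialLinearGroup (Fin 2) F) 0 0 + δ * (g : Matrix.SpecialLinearGroup (Fin 2) F) 1 0 * d⁻¹, ?_⟩,
        (g : Matrix.SpecialLinearGroup (Fin 2) F) 1 0)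
      invFun := fun x => ⟨mk4 ((x.1 : F) - δ * x.2 * d⁻¹) (- x.2 * d⁻¹ * d⁻¹) x.2 ((x.1 : F) + δ * x.2 * d⁻¹) ?_, ?_⟩
      left_inv := ?_
      right_inv := ?_ }
  · have h := (key g.1).mp g.2
    have hdet := det_eq g.1
    rw [h.1, h.2] at hdet
    linear_combination hdet + ((g : Matrix.SpecialLinearGroup (Fin 2) F) 1 0) ^ 2 * d⁻¹ ^ 2 * hδ
  · have h := x.1.2
    linear_combination h - (x.2) ^ 2 * d⁻¹ ^ 2 * hδ
  · rw [key]
    simp only [mk4_00, mk4_01, mk4_10, mk4_11]
    refine ⟨trivial, by ring⟩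
  · intro g
    have h := (key g.1).mp g.2
    apply Subtype.ext
    apply sl2_ext <;> simp only [mk4_00, mk4_01, mk4_10, mk4_11]
    · ring
    · rw [h.1]
    · rw [h.2]; ring
  · rintro ⟨⟨x, hx⟩, c⟩
    simp only [mk4_00, mk4_01, mk4_10, mk4_11, Prod.mk.injEq, Subtype.mk.injEq, and_true]
    ring

theorem exists_delta (τ : F) (h : τ ^ 2 = 4) : ∃ δ : F, δ ^ 2 = 1 ∧ τ = 2 * δ := by
  have h4 : (τ - 2) * (τ + 2) = 0 := by linear_combination h
  rcases mul_eq_zero.mp h4 with h | h
  · exact ⟨1, by ring, by linear_combination h⟩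
  · exact ⟨-1, by ring, by linear_combination h⟩

theorem card_centralizer_unip (A : Matrix.SpecialLinearGroup (Fin 2) F)
    (hA : A ∉ Subgroup.center (Matrix.SpecialLinearGroup (Fin 2) F)) (h4 : tr A ^ 2 = 4) :
    Nat.card (Subgroup.centralizer ({A} : Set (Matrix.SpecialLinearGroup (Fin 2) F))) =
      Nat.card {x : F // x ^ 2 = 1} * Nat.card F := by
  obtain ⟨d, hd, P, hP⟩ := exists_conj_comp' A hA
  obtain ⟨δ, hδ, hδ'⟩ := exists_delta (tr A) h4
  obtain ⟨M, hM⟩ : ∃ M : Matrix.SpecialLinearGroup (Fin 2) F, M = mk4 0 (-d⁻¹) d (tr A) (by field_simp; ring) := ⟨_, rfl⟩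
  rw [← hM] at hP
  rw [hP, card_centralizer_conj]
  apply card_centralizer_comp' d δ hd hδ M
  · rw [hM, mk4_00]
  · rw [hM, mk4_01]
  · rw [hM, mk4_10]
  · rw [hM, mk4_11, hδ']

theorem mem_comap_centralizer_iff (A g : Matrix.SpecialLinearGroup (Fin 2) F) :
    g ∈ (Subgroup.centralizer ({(QuotientGroup.mk A : Matrix.ProjectiveSpecialLinearGroup (Fin 2) F)} :
      Set (Matrix.ProjectiveSpecialLinearGroup (Fin 2) F))).comap (QuotientGroup.mk' _) ↔
      (g * A = A * g ∨ g * A = -(A * g)) := by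
  rw [Subgroup.mem_comap, Subgroup.mem_centralizer_singleton_iff, QuotientGroup.mk'_apply]
  rw [← QuotientGroup.mk_mul, ← QuotientGroup.mk_mul]
  exact psl2_mk_eq_iff

theorem index_centralizer_mk (A : Matrix.SpecialLinearGroup (Fin 2) F)
    (h : ∀ g : Matrix.SpecialLinearGroup (Fin 2) F, g * A = -(A * g) → g * A = A * g) :
    (Subgroup.centralizer ({(QuotientGroup.mk A : Matrix.ProjectiveSpecialLinearGroup (Fin 2) F)} :
      Set (Matrix.ProjectiveSpecialLinearGroup (Fin 2) F))).index =
    (Subgroup.centralizer ({A} : Set (Matrix.SpecialLinearGroup (Fin 2) F))).index := by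
  rw [← Subgroup.index_comap_of_surjective _ (QuotientGroup.mk'_surjective (Subgroup.center (Matrix.SpecialLinearGroup (Fin 2) F)))]
  congr 1
  ext g
  rw [mem_comap_centralizer_iff, Subgroup.mem_centralizer_singleton_iff]
  constructor
  · rintro (h1 | h1)
    · exact h1
    · exact h g h1
  · exact fun h => Or.inl h

theorem index_centralizer_mk_two (h2 : (2 : F) ≠ 0) (A w : Matrix.SpecialLinearGroup (Fin 2) F)
    (hw : w * A = -(A * w)) :
    2 * (Subgroup.centralizer ({(QuotientGroup.mk A : Matrix.ProjectiveSpecialLinearGroup (Fin 2) F)} :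
      Set (Matrix.ProjectiveSpecialLinearGroup (Fin 2) F))).index =
    (Subgroup.centralizer ({A} : Set (Matrix.SpecialLinearGroup (Fin 2) F))).index := by
  rw [← Subgroup.index_comap_of_surjective _ (QuotientGroup.mk'_surjective (Subgroup.center (Matrix.SpecialLinearGroup (Fin 2) F)))]
  obtain ⟨D, hD⟩ : ∃ D, D = (Subgroup.centralizer ({(QuotientGroup.mk A : Matrix.ProjectiveSpecialLinearGroup (Fin 2) F)} :
      Set (Matrix.ProjectiveSpecialLinearGroup (Fin 2) F))).comap (QuotientGroup.mk' _) := ⟨_, rfl⟩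
  have hmem : ∀ g, g ∈ D ↔ (g * A = A * g ∨ g * A = -(A * g)) := by
    intro g; rw [hD]; exact mem_comap_centralizer_iff A g
  rw [← hD]
  have hle : Subgroup.centralizer ({A} : Set (Matrix.SpecialLinearGroup (Fin 2) F)) ≤ D := by
    intro g hg
    rw [Subgroup.mem_centralizer_singleton_iff] at hg
    exact (hmem g).mpr (Or.inl hg)
  have hne : ∀ B : Matrix.SpecialLinearGroup (Fin 2) F, B ≠ -B := by
    intro B hB
    have hd := det_eq B
    have e00 := congrArg (fun M : Matrix.SpecialLinearGroup (Fin 2) F => M 0 0) hB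
    have e10 := congrArg (fun M : Matrix.SpecialLinearGroup (Fin 2) F => M 1 0) hB
    simp only [neg_00, neg_10] at e00 e10
    have f00 : B 0 0 = 0 := by
      have : (2 : F) * B 0 0 = 0 := by linear_combination e00
      exact (mul_eq_zero.mp this).resolve_left h2
    have f10 : B 1 0 = 0 := by
      have : (2 : F) * B 1 0 = 0 := by linear_combination e10
      exact (mul_eq_zero.mp this).resolve_left h2
    rw [f00, f10] at hd
    simp at hd
  rw [← Subgroup.relIndex_mul_index hle]
  congr 1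
  symm
  rw [Subgroup.relIndex_eq_two_iff]
  refine ⟨w, (hmem w).mpr (Or.inr hw), ?_⟩
  intro b hb
  rw [Subgroup.mem_centralizer_singleton_iff, Subgroup.mem_centralizer_singleton_iff]
  rcases (hmem b).mp hb with h | h
  · right
    refine ⟨h, ?_⟩
    rw [mul_assoc, hw, mul_neg, ← mul_assoc, ← mul_assoc, h]
    exact fun h' => hne _ h'.symm
  · left
    constructor
    · rw [mul_assoc, hw, mul_neg, ← mul_assoc, ← mul_assoc, h, neg_mul, neg_neg]
    · rw [h]
      exact fun h' => hne _ h'.symm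

end Cfsg.Agent.H41

namespace Cfsg.Agent.H41

theorem exists_pow_ne_one {G : Type*} [Group G] [Finite G] [IsCyclic G] {k : ℕ} (hk : 0 < k) (h : k < Nat.card G) :
    ∃ u : G, u ^ k ≠ 1 := by
  obtain ⟨g, hg⟩ := IsCyclic.exists_ofOrder_eq_natCard (α := G)
  refine ⟨g, fun h1 => ?_⟩
  have h2 := orderOf_dvd_of_pow_eq_one h1
  rw [hg] at h2
  exact absurd (Nat.le_of_dvd hk h2) (by omega)

variable {F : Type*} [Field F] [Fintype F]

theorem index_mul_centralizer (A : Matrix.SpecialLinearGroup (Fin 2) F) :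
    Nat.card (Subgroup.centralizer ({A} : Set (Matrix.SpecialLinearGroup (Fin 2) F))) *
      (Subgroup.centralizer ({A} : Set (Matrix.SpecialLinearGroup (Fin 2) F))).index =
      (Fintype.card F + 1) * ((Fintype.card F - 1) * Fintype.card F) := by
  rw [Subgroup.card_mul_index, card_sl2']

theorem index_eig (A : Matrix.SpecialLinearGroup (Fin 2) F) (h : tr A ^ 2 ≠ 4) (a : F) (ha : a ^ 2 - tr A * a + 1 = 0) :
    (Subgroup.centralizer ({A} : Set (Matrix.SpecialLinearGroup (Fin 2) F))).index =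
      Fintype.card F * (Fintype.card F + 1) := by
  have h1 := index_mul_centralizer A
  rw [(centralizer_of_eig A h a ha).2, Nat.card_eq_fintype_card] at h1
  have hq : 1 < Fintype.card F := Fintype.one_lt_card
  apply Nat.eq_of_mul_eq_mul_left (show 0 < Fintype.card F - 1 by omega)
  rw [h1]; ring

theorem index_noEig (A : Matrix.SpecialLinearGroup (Fin 2) F) (h : NoEig (tr A)) :
    (Subgroup.centralizer ({A} : Set (Matrix.SpecialLinearGroup (Fin 2) F))).index =
      Fintype.card F * (Fintype.card F - 1) := by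
  have h1 := index_mul_centralizer A
  rw [(centralizer_of_noEig A h).2, Nat.card_eq_fintype_card] at h1
  apply Nat.eq_of_mul_eq_mul_left (show 0 < Fintype.card F + 1 by omega)
  rw [h1]; ring

theorem noEig_nsHom {K : Type*} [Field K] [Algebra F K] [Finite K] (h2 : Module.finrank F K = 2)
    (z : normOne F K) (hz : z ^ 2 ≠ 1) : NoEig (tr (nsHom h2 z)) := by
  intro a ha
  have h := congrArg (algebraMap F K) ha
  rw [map_add, map_sub, map_mul, map_pow, tr_nsHom, map_one, map_zero, normOne_pow_card] at h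
  have h3 : ((z : Kˣ) : K) * (((z⁻¹ : normOne F K) : Kˣ) : K) = 1 := by simp
  have h4 : (algebraMap F K a - ((z : Kˣ) : K)) * (algebraMap F K a - (((z⁻¹ : normOne F K) : Kˣ) : K)) = 0 := by
    linear_combination h + h3
  have key : ∀ w : normOne F K, algebraMap F K a = ((w : Kˣ) : K) → w ^ 2 = 1 := by
    intro w hw
    have h5 := normOne_pow_card w
    have h6 : a ^ Nat.card F = a := by
      rw [Nat.card_eq_fintype_card]; exact FiniteField.pow_card a
    rw [← hw, ← map_pow, h6, hw] at h5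
    have h7 : w = w⁻¹ := Subtype.ext (Units.ext h5)
    rw [pow_two]
    nth_rewrite 2 [h7]
    simp
  rcases mul_eq_zero.mp h4 with h5 | h5
  · exact hz (key z (by linear_combination h5))
  · have := key z⁻¹ (by linear_combination h5)
    apply hz
    rw [inv_pow, inv_eq_one] at this
    exact this

/-- existence of a nonsplit element whose `k`-th power is not 1 -/
theorem exists_nonsplit {k : ℕ} (hk : 0 < k) (h : k < Fintype.card F + 1) :
    ∃ A : Matrix.SpecialLinearGroup (Fin 2) F, A ^ k ≠ 1 ∧ (A ^ 2 ≠ 1 → NoEig (tr A)) := by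
  obtain ⟨K, _, _, _, hK⟩ := exists_quadExt F
  haveI : IsCyclic (normOne F K) := inferInstance
  have hc := card_normOne (F := F) (K := K) hK
  obtain ⟨z, hz⟩ := exists_pow_ne_one (G := normOne F K) hk (by rw [hc, Nat.card_eq_fintype_card]; exact h)
  refine ⟨nsHom hK z, ?_, ?_⟩
  · intro h1
    apply hz
    apply nsHom_injective hK
    rw [map_pow, h1, map_one]
  · intro h1
    apply noEig_nsHom
    intro h2
    apply h1
    rw [← map_pow, h2, map_one]

/-- existence of a split element whose `k`-th power is not 1 -/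
theorem exists_split {k : ℕ} (hk : 0 < k) (h : k < Fintype.card F - 1) :
    ∃ A : Matrix.SpecialLinearGroup (Fin 2) F, A ^ k ≠ 1 ∧ (A ^ 2 ≠ 1 → (tr A ^ 2 ≠ 4 ∧ ∃ a : F, a ^ 2 - tr A * a + 1 = 0)) := by
  obtain ⟨u, hu⟩ := exists_pow_ne_one (G := Fˣ) hk (by rw [Nat.card_units, Nat.card_eq_fintype_card]; exact h)
  refine ⟨spHom u, ?_, ?_⟩
  · intro h1
    apply hu
    apply spHom_injective
    rw [map_pow, h1, map_one]
  · intro h1
    refine ⟨?_, u, ?_⟩
    · apply tr_spHom_sq_ne_four
      intro h2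
      apply h1
      rw [← map_pow, h2, map_one]
    · rw [tr_spHom]
      have : (u : F) * ((u⁻¹ : Fˣ) : F) = 1 := by simp
      linear_combination -this

theorem index_unip (A : Matrix.SpecialLinearGroup (Fin 2) F)
    (hA : A ∉ Subgroup.center (Matrix.SpecialLinearGroup (Fin 2) F)) (h4 : tr A ^ 2 = 4) (m : ℕ)
    (hm : Nat.card {x : F // x ^ 2 = 1} = m) :
    m * (Subgroup.centralizer ({A} : Set (Matrix.SpecialLinearGroup (Fin 2) F))).index =
      Fintype.card F ^ 2 - 1 := by
  have h1 := index_mul_centralizer A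
  rw [card_centralizer_unip A hA h4, hm, Nat.card_eq_fintype_card] at h1
  have hq : 0 < Fintype.card F := Fintype.card_pos
  apply Nat.eq_of_mul_eq_mul_left hq
  calc Fintype.card F * (m * (Subgroup.centralizer ({A} : Set (Matrix.SpecialLinearGroup (Fin 2) F))).index)
      = m * Fintype.card F * (Subgroup.centralizer ({A} : Set (Matrix.SpecialLinearGroup (Fin 2) F))).index := by ring
    _ = (Fintype.card F + 1) * ((Fintype.card F - 1) * Fintype.card F) := h1
    _ = Fintype.card F * (Fintype.card F ^ 2 - 1) := by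
      obtain ⟨r, hr⟩ : ∃ r, Fintype.card F = r + 1 := ⟨Fintype.card F - 1, by omega⟩
      rw [hr]
      have : (r + 1) ^ 2 - 1 = r * (r + 2) := by
        rw [Nat.sub_eq_iff_eq_add (by nlinarith)]; ring
      rw [this, Nat.add_sub_cancel]; ring

theorem eig_or_noEig (τ : F) : (∃ a : F, a ^ 2 - τ * a + 1 = 0) ∨ NoEig τ := by
  by_cases h : ∃ a : F, a ^ 2 - τ * a + 1 = 0
  · exact Or.inl h
  · right
    intro a ha
    exact h ⟨a, ha⟩

theorem unip_not_central : (mk4 (1 : F) 1 0 1 (by ring)) ∉ Subgroup.center (Matrix.SpecialLinearGroup (Fin 2) F) := by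
  rw [mem_center_sl2]
  rintro (h | h)
  · have := congrArg (fun M : Matrix.SpecialLinearGroup (Fin 2) F => M 0 1) h
    simp at this
  · have := congrArg (fun M : Matrix.SpecialLinearGroup (Fin 2) F => M 0 1) h
    simp at this

theorem unip_tr : tr (mk4 (1 : F) 1 0 1 (by ring)) = 2 := by
  simp [tr]; norm_num

end Cfsg.Agent.H41
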