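import Mathlib

set_option autoImplicit false

namespace Cfsg.Agent.H41

open Equiv.Perm

/-- Element orders of the alternating group in terms of cycle types. -/
theorem mem_range_orderOf_alt_iff (n k : ℕ) :
    k ∈ Set.range (orderOf : alternatingGroup (Fin n) → ℕ) ↔
      ∃ m : Multiset ℕ, m.sum ≤ n ∧ (∀ a ∈ m, 2 ≤ a) ∧ Even (m.sum + Multiset.card m) ∧ m.lcm = k := by
  constructor
  · rintro ⟨g, rfl⟩
    refine ⟨(g : Equiv.Perm (Fin n)).cycleType, ?_, ?_, ?_, ?_⟩
    · have := ((exists_with_cycleType_iff (Fin n)).mp ⟨(g : Equiv.Perm (Fin n)), rfl⟩).1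
      simpa using this
    · intro a ha; exact two_le_of_mem_cycleType ha
    · have h1 := mem_alternatingGroup.mp g.2
      rw [sign_of_cycleType] at h1
      rwa [neg_one_pow_eq_one_iff_even (by decide)] at h1
    · rw [lcm_cycleType, Subgroup.orderOf_coe]
  · rintro ⟨m, h1, h2, h3, h4⟩
    obtain ⟨g, hg⟩ := (exists_with_cycleType_iff (Fin n) (m := m)).mpr ⟨by simpa using h1, h2⟩
    have hs : sign g = 1 := by
      rw [sign_of_cycleType, hg, neg_one_pow_eq_one_iff_even (by decide)]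
      exact h3
    refine ⟨⟨g, mem_alternatingGroup.mpr hs⟩, ?_⟩
    rw [Subgroup.orderOf_mk, ← lcm_cycleType, hg, h4]

theorem exists_mem_of_prime_dvd_lcm {p : ℕ} (hp : p.Prime) (m : Multiset ℕ) (h : p ∣ m.lcm) : ∃ a ∈ m, p ∣ a := by
  induction m using Multiset.induction_on with
  | empty => rw [Multiset.lcm_zero] at h; exact absurd (Nat.dvd_one.mp h) hp.one_lt.ne'
  | cons a s ih =>
    rw [Multiset.lcm_cons] at h
    have h' : p ∣ Nat.lcm a s.lcm := h
    rcases (Nat.Prime.dvd_lcm hp).mp h' with h1 | h1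
    · exact ⟨a, Multiset.mem_cons_self a s, h1⟩
    · obtain ⟨b, hb, h2⟩ := ih h1
      exact ⟨b, Multiset.mem_cons_of_mem hb, h2⟩

theorem le_sum_of_mem_multiset {m : Multiset ℕ} {a : ℕ} (h : a ∈ m) : a ≤ m.sum :=
  Multiset.single_le_sum (by intro x _; exact Nat.zero_le x) a h

end Cfsg.Agent.H41
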