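import Mathlib

/-! Semisimple endomorphisms over finite fields: decomposition into cyclic pieces, conjugacy of semisimple
endomorphisms with the same characteristic polynomial, determinants on centralizers. -/

set_option autoImplicit false
set_option linter.unusedSimpArgs false

open Matrix Polynomial Module

namespace Cfsg.Agent.H41

/-- an irreducible factor of the characteristic polynomial kills some vector. -/
theorem exists_ker_of_dvd_charpoly_mat {F : Type*} [Field F] {ι : Type*} [Fintype ι] [DecidableEq ι] (A : Matrix ι ι F) (h : F[X])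
    (hirr : Irreducible h) (hdvd : h ∣ A.charpoly) : ∃ v : ι → F, v ≠ 0 ∧ (aeval A h) *ᵥ v = 0 := by
  let K := AlgebraicClosure F
  obtain ⟨l, hl⟩ : ∃ l : K, aeval l h = 0 := IsAlgClosed.exists_aeval_eq_zero K h (degree_pos_of_irreducible hirr).ne'
  have h1 : (A.map (algebraMap F K)).charpoly = A.charpoly.map (algebraMap F K) := Matrix.charpoly_map _ _
  have h2 : (A.map (algebraMap F K)).charpoly.IsRoot l := by
    rw [h1]
    have h3 : (h.map (algebraMap F K)).IsRoot l := by rw [IsRoot.def, eval_map_algebraMap]; exact hl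
    exact h3.dvd (Polynomial.map_dvd _ hdvd)
  rw [IsRoot.def, Matrix.eval_charpoly] at h2
  obtain ⟨v, hv0, hv⟩ := Matrix.exists_mulVec_eq_zero_iff.mpr h2
  have hv2 : (A.map (algebraMap F K)) *ᵥ v = l • v := by
    rw [Matrix.sub_mulVec, sub_eq_zero] at hv
    rw [← hv]
    ext j
    simp [Matrix.scalar_apply, Matrix.mulVec_diagonal]
  have hv3 : ∀ g : F[X], (aeval (A.map (algebraMap F K)) (g.map (algebraMap F K))) *ᵥ v = (aeval l g) • v := by
    intro g
    induction g using Polynomial.induction_on' with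
    | add a b ha hb => rw [Polynomial.map_add, map_add, map_add, Matrix.add_mulVec, ha, hb, add_smul]
    | monomial n a =>
      have h4 : ∀ k : ℕ, ((A.map (algebraMap F K)) ^ k) *ᵥ v = l ^ k • v := by
        intro k
        induction k with
        | zero => simp
        | succ k ih => rw [pow_succ, ← Matrix.mulVec_mulVec, hv2, Matrix.mulVec_smul, ih, smul_smul, pow_succ, mul_comm]
      rw [Polynomial.map_monomial, aeval_monomial, aeval_monomial, ← Matrix.mulVec_mulVec, h4, mul_smul, Algebra.algebraMap_eq_smul_one,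
        Matrix.smul_mulVec, Matrix.one_mulVec]
  have h5 : (aeval (A.map (algebraMap F K)) (h.map (algebraMap F K))) = (aeval A h).map (algebraMap F K) := by
    have := Polynomial.map_aeval_eq_aeval_map (R := F) (S := Matrix ι ι F) (T := K) (U := Matrix ι ι K) (φ := algebraMap F K)
      (ψ := (algebraMap F K).mapMatrix) (by
        ext a i j
        simp [Matrix.algebraMap_matrix_apply]
        split_ifs <;> simp) h A
    exact this.symm
  have h6 : ((aeval A h).map (algebraMap F K)).det = 0 := by
    apply Matrix.exists_mulVec_eq_zero_iff.mp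
    refine ⟨v, hv0, ?_⟩
    rw [← h5, hv3, hl, zero_smul]
  have h7 : (aeval A h).det = 0 := by
    apply (algebraMap F K).injective
    rw [map_zero, ← h6]
    exact RingHom.map_det _ _
  exact Matrix.exists_mulVec_eq_zero_iff.mpr h7

universe u

theorem exists_ker_of_dvd_charpoly {F : Type*} [Field F] {V : Type*} [AddCommGroup V] [Module F V] [FiniteDimensional F V]
    (f : End F V) (h : F[X]) (hirr : Irreducible h) (hdvd : h ∣ f.charpoly) : ∃ v : V, v ≠ 0 ∧ (aeval f h) v = 0 := by
  classical
  let b := Module.finBasis F V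
  rw [← LinearMap.charpoly_toMatrix f b] at hdvd
  obtain ⟨v, hv0, hv⟩ := exists_ker_of_dvd_charpoly_mat _ h hirr hdvd
  refine ⟨b.equivFun.symm v, ?_, ?_⟩
  · intro h0
    apply hv0
    exact (LinearEquiv.map_eq_zero_iff _).mp h0
  · have h1 : aeval (LinearMap.toMatrix b b f) h = LinearMap.toMatrix b b (aeval f h) := by
      have := Polynomial.aeval_algHom_apply (LinearMap.toMatrixAlgEquiv b).toAlgHom f h
      exact this
    rw [h1] at hv
    have h2 := LinearMap.toMatrix_mulVec_repr b b (aeval f h) (b.equivFun.symm v)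
    have h3 : (b.repr (b.equivFun.symm v) : _ → F) = v := b.equivFun.apply_symm_apply v
    rw [h3, hv] at h2
    have h4 : b.equivFun ((aeval f h) (b.equivFun.symm v)) = 0 := h2.symm
    exact (LinearEquiv.map_eq_zero_iff _).mp h4

/-- the cyclic submodule generated by a vector killed by an irreducible polynomial. -/
theorem exists_cyclic {F : Type*} [Field F] {V : Type*} [AddCommGroup V] [Module F V] [FiniteDimensional F V]
    (f : End F V) (h : F[X]) (hirr : Irreducible h) (hm : h.Monic) (hdvd : h ∣ f.charpoly) :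
    ∃ φ : AdjoinRoot h →ₗ[F] V, Function.Injective φ ∧ ∀ x, φ (AdjoinRoot.root h * x) = f (φ x) := by
  obtain ⟨v, hv0, hv⟩ := exists_ker_of_dvd_charpoly f h hirr hdvd
  let φ : AdjoinRoot h →ₗ[F] V := (LinearMap.applyₗ v) ∘ₗ (aeval f : F[X] →ₐ[F] End F V).toLinearMap ∘ₗ (AdjoinRoot.modByMonicHom hm)
  have hφ : ∀ p : F[X], φ (AdjoinRoot.mk h p) = (aeval f p) v := by
    intro p
    change (aeval f (AdjoinRoot.modByMonicHom hm (AdjoinRoot.mk h p))) v = _
    rw [AdjoinRoot.modByMonicHom_mk]
    conv_rhs => rw [← modByMonic_add_div p h, mul_comm h]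
    rw [map_add, map_mul, LinearMap.add_apply, Module.End.mul_apply, hv, map_zero, add_zero]
  refine ⟨φ, ?_, ?_⟩
  · rw [injective_iff_map_eq_zero]
    intro x hx
    obtain ⟨p, rfl⟩ := AdjoinRoot.mk_surjective x
    rw [hφ] at hx
    rcases hirr.isCoprime_or_dvd p with h1 | h1
    · exfalso
      obtain ⟨a, b, hab⟩ := h1
      apply hv0
      have h2 : aeval f (a * h + b * p) v = v := by rw [hab, map_one]; rfl
      rw [map_add, map_mul, map_mul, LinearMap.add_apply, Module.End.mul_apply, Module.End.mul_apply, hv, hx, map_zero, map_zero, add_zero] at h2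
      exact h2.symm
    · exact AdjoinRoot.mk_eq_zero.mpr h1
  · intro x
    obtain ⟨p, rfl⟩ := AdjoinRoot.mk_surjective x
    rw [← AdjoinRoot.mk_X, ← map_mul, hφ, hφ, map_mul, aeval_X]
    rfl

/-- Splitting off a cyclic piece. -/
theorem exists_decomp {F : Type*} [Field F] {V : Type*} [AddCommGroup V] [Module F V] [FiniteDimensional F V]
    (f : End F V) (hf : f.IsSemisimple) (h : F[X]) (hirr : Irreducible h) (hm : h.Monic) (hdvd : h ∣ f.charpoly) :
    ∃ (T : Submodule F V) (hT : ∀ x ∈ T, f x ∈ T) (e : (AdjoinRoot h × T) ≃ₗ[F] V),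
      (∀ (x : AdjoinRoot h) (t : T), e (AdjoinRoot.root h * x, ⟨f t, hT t t.2⟩) = f (e (x, t))) ∧
      Module.End.IsSemisimple (LinearMap.restrict f hT) := by
  obtain ⟨φ, hφ, hφf⟩ := exists_cyclic f h hirr hm hdvd
  have hS : LinearMap.range φ ∈ f.invtSubmodule := by
    rw [Module.End.mem_invtSubmodule]
    rintro _ ⟨x, rfl⟩
    exact ⟨AdjoinRoot.root h * x, hφf x⟩
  obtain ⟨T, hT, hcompl⟩ := Module.End.isSemisimple_iff.mp hf _ hS
  have hT' : ∀ x ∈ T, f x ∈ T := fun x hx => hT hx
  let e1 : AdjoinRoot h ≃ₗ[F] LinearMap.range φ := LinearEquiv.ofInjective φ hφ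
  let e : (AdjoinRoot h × T) ≃ₗ[F] V := (LinearEquiv.prodCongr e1 (LinearEquiv.refl F T)).trans (Submodule.prodEquivOfIsCompl _ _ hcompl)
  refine ⟨T, hT', e, ?_, hf.restrict hT⟩
  intro x t
  have he : ∀ (x : AdjoinRoot h) (t : T), e (x, t) = φ x + t := fun x t => rfl
  rw [he, he, map_add, hφf]

theorem finite_adjoinRoot {F : Type*} [Field F] (h : F[X]) (hm : h.Monic) : FiniteDimensional F (AdjoinRoot h) :=
  (AdjoinRoot.powerBasis hm.ne_zero).finite

theorem charpoly_of_decomp {F : Type*} [Field F] {V : Type*} [AddCommGroup V] [Module F V] [FiniteDimensional F V]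
    (f : End F V) (h : F[X]) [FiniteDimensional F (AdjoinRoot h)] (T : Submodule F V) (hT : ∀ x ∈ T, f x ∈ T) (e : (AdjoinRoot h × T) ≃ₗ[F] V)
    (he : ∀ (x : AdjoinRoot h) (t : T), e (AdjoinRoot.root h * x, ⟨f t, hT t t.2⟩) = f (e (x, t))) :
    f.charpoly = (LinearMap.mulLeft F (AdjoinRoot.root h)).charpoly * (LinearMap.restrict f hT).charpoly := by
  have h1 : f = e.conj ((LinearMap.mulLeft F (AdjoinRoot.root h)).prodMap (LinearMap.restrict f hT)) := by
    apply LinearMap.ext
    intro v
    obtain ⟨⟨x, t⟩, rfl⟩ := e.surjective v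
    rw [LinearEquiv.conj_apply_apply, e.symm_apply_apply, ← he]
    rfl
  conv_lhs => rw [h1]
  rw [LinearEquiv.charpoly_conj, LinearMap.charpoly_prodMap]

/-- Semisimple endomorphisms with the same characteristic polynomial are conjugate. -/
theorem exists_equiv_of_charpoly_eq {F : Type*} [Field F] : ∀ (n : ℕ) (V W : Type u) [AddCommGroup V] [Module F V] [FiniteDimensional F V]
    [AddCommGroup W] [Module F W] [FiniteDimensional F W] (f : End F V) (g : End F W), Module.finrank F V ≤ n →
    f.IsSemisimple → g.IsSemisimple → f.charpoly = g.charpoly → ∃ e : V ≃ₗ[F] W, ∀ v, e (f v) = g (e v) := by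
  intro n
  induction n with
  | zero =>
    intro V W _ _ _ _ _ _ f g hn hf hg hfg
    have h1 : Module.finrank F V = Module.finrank F W := by
      rw [← LinearMap.charpoly_natDegree f, ← LinearMap.charpoly_natDegree g, hfg]
    have h2 : Module.finrank F W = 0 := by omega
    have h3 : Subsingleton W := Module.finrank_zero_iff.mp h2
    exact ⟨LinearEquiv.ofFinrankEq V W h1, fun v => Subsingleton.elim _ _⟩
  | succ n ih =>
    intro V W _ _ _ _ _ _ f g hn hf hg hfg
    have h1 : Module.finrank F V = Module.finrank F W := by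
      rw [← LinearMap.charpoly_natDegree f, ← LinearMap.charpoly_natDegree g, hfg]
    rcases Nat.eq_zero_or_pos (Module.finrank F V) with h2 | h2
    · have h3 : Subsingleton W := Module.finrank_zero_iff.mp (h1 ▸ h2)
      exact ⟨LinearEquiv.ofFinrankEq V W h1, fun v => Subsingleton.elim _ _⟩
    · have hnu : ¬ IsUnit f.charpoly := by
        intro hu
        have := natDegree_eq_zero_of_isUnit hu
        rw [LinearMap.charpoly_natDegree] at this
        omega
      obtain ⟨h, hmon, hirr, hdvd⟩ := Polynomial.exists_monic_irreducible_factor f.charpoly hnu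
      have hfd := finite_adjoinRoot h hmon
      obtain ⟨T, hT, e, he, hTs⟩ := exists_decomp f hf h hirr hmon hdvd
      obtain ⟨T', hT', e', he', hTs'⟩ := exists_decomp g hg h hirr hmon (hfg ▸ hdvd)
      have c1 := charpoly_of_decomp f h T hT e he
      have c2 := charpoly_of_decomp g h T' hT' e' he'
      have c3 : (LinearMap.restrict f hT).charpoly = (LinearMap.restrict g hT').charpoly := by
        rw [c1, c2] at hfg
        exact mul_left_cancel₀ (LinearMap.charpoly_monic _).ne_zero hfg
      have hfr : Module.finrank F T ≤ n := by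
        have h3 := e.finrank_eq
        rw [Module.finrank_prod, (AdjoinRoot.powerBasis hmon.ne_zero).finrank, AdjoinRoot.powerBasis_dim] at h3
        have h4 := hirr.natDegree_pos
        omega
      obtain ⟨ε, hε⟩ := ih T T' _ _ hfr hTs hTs' c3
      refine ⟨e.symm.trans ((LinearEquiv.prodCongr (LinearEquiv.refl F (AdjoinRoot h)) ε).trans e'), ?_⟩
      intro v
      obtain ⟨⟨x, t⟩, rfl⟩ := e.surjective v
      rw [← he]
      simp only [LinearEquiv.trans_apply, LinearEquiv.symm_apply_apply, LinearEquiv.prodCongr_apply, LinearEquiv.refl_apply]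
      rw [← he']
      congr 2
      exact hε t

/-- every nonzero scalar is the determinant of an automorphism commuting with `f`. -/
theorem exists_comm_det {F : Type*} [Field F] [Finite F] {V : Type*} [AddCommGroup V] [Module F V] [FiniteDimensional F V] [Nontrivial V]
    (f : End F V) (hf : f.IsSemisimple) (a : F) (ha : a ≠ 0) : ∃ c : V ≃ₗ[F] V, (∀ v, c (f v) = f (c v)) ∧ LinearMap.det (c : V →ₗ[F] V) = a := by
  have h2 : 0 < Module.finrank F V := Module.finrank_pos
  have hnu : ¬ IsUnit f.charpoly := by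
    intro hu
    have := natDegree_eq_zero_of_isUnit hu
    rw [LinearMap.charpoly_natDegree] at this
    omega
  obtain ⟨h, hmon, hirr, hdvd⟩ := Polynomial.exists_monic_irreducible_factor f.charpoly hnu
  have hfd := finite_adjoinRoot h hmon
  obtain ⟨T, hT, e, he, hTs⟩ := exists_decomp f hf h hirr hmon hdvd
  have : Fact (Irreducible h) := ⟨hirr⟩
  have hfin : Finite (AdjoinRoot h) := Module.finite_of_finite F
  obtain ⟨z, hz⟩ := FiniteField.norm_surjective F (AdjoinRoot h) a
  have hz0 : z ≠ 0 := by
    rintro rfl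
    apply ha
    rw [← hz, Algebra.norm_zero]
  let m : AdjoinRoot h ≃ₗ[F] AdjoinRoot h := LinearEquiv.ofBijective (LinearMap.mulLeft F z)
    ⟨fun x y hxy => mul_left_cancel₀ hz0 hxy, fun y => ⟨z⁻¹ * y, by simp [hz0]⟩⟩
  have hm : ∀ x, m x = z * x := fun x => rfl
  refine ⟨e.symm.trans ((LinearEquiv.prodCongr m (LinearEquiv.refl F T)).trans e), ?_, ?_⟩
  · intro v
    obtain ⟨⟨x, t⟩, rfl⟩ := e.surjective v
    rw [← he]
    simp only [LinearEquiv.trans_apply, LinearEquiv.symm_apply_apply, LinearEquiv.prodCongr_apply, LinearEquiv.refl_apply]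
    rw [← he, hm, hm, mul_left_comm]
  · have h1 : ((e.symm.trans ((LinearEquiv.prodCongr m (LinearEquiv.refl F T)).trans e) : V ≃ₗ[F] V) : V →ₗ[F] V) =
        (e : (AdjoinRoot h × T) →ₗ[F] V) ∘ₗ ((LinearMap.mulLeft F z).prodMap (LinearMap.id : T →ₗ[F] T)) ∘ₗ (e.symm : V →ₗ[F] (AdjoinRoot h × T)) := by
      apply LinearMap.ext
      intro v
      rfl
    rw [h1, LinearMap.det_conj, LinearMap.det_prodMap, LinearMap.det_id, mul_one, ← hz, Algebra.norm_apply]
    rfl

end Cfsg.Agent.H41
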