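import Mathlib
import Cfsg.Agent.H41.Semis

/-! Matrix versions: conjugacy of elements of order prime to `p` with equal characteristic polynomials, and existence of such elements. -/

set_option autoImplicit false
set_option linter.unusedSimpArgs false

open Matrix Polynomial Module

namespace Cfsg.Agent.H41

theorem isSemisimple_of_pow {F : Type*} [Field F] {V : Type*} [AddCommGroup V] [Module F V] [FiniteDimensional F V] (f : End F V) (m : ℕ) (hm : (m : F) ≠ 0)
    (hf : f ^ m = 1) : f.IsSemisimple := by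
  apply Module.End.isSemisimple_of_squarefree_aeval_eq_zero (p := X ^ m - C 1)
  · exact (Polynomial.separable_X_pow_sub_C (1 : F) hm one_ne_zero).squarefree
  · rw [map_sub, map_pow, aeval_X, hf, C_1, map_one, sub_self]

theorem isSemisimple_toLin {F : Type*} [Field F] {n : ℕ} (A : Matrix (Fin n) (Fin n) F) (m : ℕ) (hm : (m : F) ≠ 0)
    (hA : A ^ m = 1) : Module.End.IsSemisimple (Matrix.toLin' A) := by
  apply isSemisimple_of_pow _ m hm
  have h1 : (Matrix.toLin' A) ^ m = Matrix.toLin' (A ^ m) := (Matrix.toLin'_pow A m).symm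
  rw [h1, hA, Matrix.toLin'_one]; rfl

/-- similarity over `GL_n`. -/
theorem exists_simil_of_charpoly {F : Type*} [Field F] {n : ℕ} (A B : Matrix (Fin n) (Fin n) F) (m : ℕ) (hm : (m : F) ≠ 0)
    (hA : A ^ m = 1) (hB : B ^ m = 1) (hc : A.charpoly = B.charpoly) :
    ∃ P : Matrix (Fin n) (Fin n) F, P.det ≠ 0 ∧ P * A = B * P := by
  have h1 := isSemisimple_toLin A m hm hA
  have h2 := isSemisimple_toLin B m hm hB
  obtain ⟨e, he⟩ := exists_equiv_of_charpoly_eq n (Fin n → F) (Fin n → F) (Matrix.toLin' A) (Matrix.toLin' B) (by simp) h1 h2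
    (by rw [Matrix.charpoly_toLin', Matrix.charpoly_toLin', hc])
  refine ⟨LinearMap.toMatrix' (e : (Fin n → F) →ₗ[F] (Fin n → F)), ?_, ?_⟩
  · rw [LinearMap.det_toMatrix']
    exact (LinearEquiv.isUnit_det' e).ne_zero
  · apply Matrix.toLin'.injective
    rw [Matrix.toLin'_mul, Matrix.toLin'_mul, Matrix.toLin'_toMatrix']
    apply LinearMap.ext
    intro v
    exact he v

/-- determinants on the centralizer of a semisimple matrix. -/
theorem exists_comm_det_mat {F : Type*} [Field F] [Finite F] {n : ℕ} (hn : n ≠ 0) (A : Matrix (Fin n) (Fin n) F) (m : ℕ) (hm : (m : F) ≠ 0)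
    (hA : A ^ m = 1) (a : F) (ha : a ≠ 0) : ∃ C : Matrix (Fin n) (Fin n) F, C.det = a ∧ C * A = A * C := by
  have h1 := isSemisimple_toLin A m hm hA
  have : Nonempty (Fin n) := ⟨⟨0, Nat.pos_of_ne_zero hn⟩⟩
  obtain ⟨c, hc, hdet⟩ := exists_comm_det (V := Fin n → F) (Matrix.toLin' A) h1 a ha
  refine ⟨LinearMap.toMatrix' (c : (Fin n → F) →ₗ[F] (Fin n → F)), ?_, ?_⟩
  · rw [LinearMap.det_toMatrix', hdet]
  · apply Matrix.toLin'.injective
    rw [Matrix.toLin'_mul, Matrix.toLin'_mul, Matrix.toLin'_toMatrix']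
    apply LinearMap.ext
    intro v
    exact hc v

/-- conjugacy in `SL_n`. -/
theorem exists_sl_simil {F : Type*} [Field F] [Finite F] {n : ℕ} (A B : Matrix (Fin n) (Fin n) F) (m : ℕ) (hm : (m : F) ≠ 0)
    (hA : A ^ m = 1) (hB : B ^ m = 1) (hc : A.charpoly = B.charpoly) :
    ∃ P : Matrix (Fin n) (Fin n) F, P.det = 1 ∧ P * A = B * P := by
  rcases eq_or_ne n 0 with hn | hn
  · subst hn
    exact ⟨1, by simp, Subsingleton.elim _ _⟩
  obtain ⟨P, hP, hPAB⟩ := exists_simil_of_charpoly A B m hm hA hB hc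
  obtain ⟨C, hC, hCA⟩ := exists_comm_det_mat hn A m hm hA (P.det)⁻¹ (inv_ne_zero hP)
  refine ⟨P * C, ?_, ?_⟩
  · rw [det_mul, hC, mul_inv_cancel₀ hP]
  · rw [mul_assoc, hCA, ← mul_assoc, hPAB, mul_assoc]

/-- Every monic polynomial of degree `n` is a characteristic polynomial. -/
theorem exists_charpoly_eq {F : Type*} [Field F] (n : ℕ) (f : F[X]) (hf : f.Monic) (hdeg : f.natDegree = n) :
    ∃ A : Matrix (Fin n) (Fin n) F, A.charpoly = f := by
  subst hdeg
  let pb := AdjoinRoot.powerBasis hf.ne_zero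
  have h1 : (Algebra.leftMulMatrix pb.basis pb.gen).charpoly = minpoly F pb.gen := charpoly_leftMulMatrix pb
  have h2 : minpoly F pb.gen = f := by
    change minpoly F (AdjoinRoot.powerBasis hf.ne_zero).gen = f
    rw [AdjoinRoot.minpoly_powerBasis_gen_of_monic hf]
  have hd : pb.dim = f.natDegree := AdjoinRoot.powerBasis_dim _
  refine ⟨Matrix.reindexAlgEquiv F F (finCongr hd) (Algebra.leftMulMatrix pb.basis pb.gen), ?_⟩
  rw [Matrix.reindexAlgEquiv_apply, Matrix.charpoly_reindex, h1, h2]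

theorem charpoly_pow_card_pow {F : Type*} [Field F] [Fintype F] {n : ℕ} (A : Matrix (Fin n) (Fin n) F) (j : ℕ) :
    (A ^ (Fintype.card F ^ j)).charpoly = A.charpoly := by
  induction j with
  | zero => simp
  | succ j ih => rw [pow_succ, pow_mul, FiniteField.Matrix.charpoly_pow_card, ih]

/-- An element `x` of a finite group has a power `x ^ (q ^ j)` of order prime to `p`. -/
theorem exists_coprime_pow {G : Type*} [Group G] [Finite G] (p : ℕ) (hp : p.Prime) (q : ℕ) (hq : p ∣ q) (x : G) :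
    ∃ j : ℕ, (orderOf (x ^ (q ^ j))).Coprime p := by
  obtain ⟨a, m, hm, hN⟩ := Nat.exists_eq_pow_mul_and_not_dvd (orderOf_pos x).ne' p hp.ne_one
  refine ⟨a, ?_⟩
  have h1 : (x ^ (q ^ a)) ^ m = 1 := by
    rw [← pow_mul]
    apply orderOf_dvd_iff_pow_eq_one.mp
    rw [hN]
    exact Nat.mul_dvd_mul (pow_dvd_pow_of_dvd hq a) dvd_rfl
  exact Nat.Coprime.coprime_dvd_left (orderOf_dvd_of_pow_eq_one h1) ((Nat.Prime.coprime_iff_not_dvd hp).mpr hm).symm

end Cfsg.Agent.H41
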