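import Mathlib
import Cfsg.Agent.H41.SemisMat

/-! Counting semisimple classes. -/

set_option autoImplicit false
set_option linter.unusedSimpArgs false

open Matrix Polynomial Module

namespace Cfsg.Agent.H41

/-- monic polynomial with prescribed lower coefficients -/
noncomputable def monicOf {F : Type*} [Field F] (n : ℕ) (a : Fin n → F) : F[X] := X ^ n + ∑ i : Fin n, C (a i) * X ^ (i : ℕ)

theorem degree_sum_lt {F : Type*} [Field F] (n : ℕ) (a : Fin n → F) : (∑ i : Fin n, C (a i) * X ^ (i : ℕ)).degree < (n : WithBot ℕ) :=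
  degree_sum_fin_lt a

theorem monicOf_monic {F : Type*} [Field F] (n : ℕ) (a : Fin n → F) : (monicOf n a).Monic :=
  monic_X_pow_add (degree_sum_lt n a)

theorem monicOf_natDegree {F : Type*} [Field F] (n : ℕ) (a : Fin n → F) : (monicOf n a).natDegree = n := by
  apply natDegree_eq_of_degree_eq_some
  rw [monicOf, degree_add_eq_left_of_degree_lt, degree_X_pow]
  rw [degree_X_pow]; exact degree_sum_lt n a

theorem monicOf_coeff {F : Type*} [Field F] (n : ℕ) (a : Fin n → F) (i : Fin n) : (monicOf n a).coeff i = a i := by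
  rw [monicOf, coeff_add, coeff_X_pow, if_neg (by have := i.2; omega), zero_add, finsetSum_coeff]
  rw [Finset.sum_eq_single i]
  · simp
  · intro j _ hj
    rw [coeff_C_mul, coeff_X_pow, if_neg (by intro h; exact hj (Fin.ext h.symm)), mul_zero]
  · intro h; exact absurd (Finset.mem_univ _) h

theorem eq_of_coeff {F : Type*} [Field F] (n : ℕ) (f g : F[X]) (hf : f.Monic) (hg : g.Monic) (hfn : f.natDegree = n) (hgn : g.natDegree = n)
    (h : ∀ i : Fin n, f.coeff i = g.coeff i) : f = g := by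
  ext i
  rcases lt_trichotomy i n with h1 | h1 | h1
  · exact h ⟨i, h1⟩
  · subst h1
    have e1 : f.coeff i = 1 := by rw [← hfn]; exact hf.coeff_natDegree
    have e2 : g.coeff i = 1 := by rw [← hgn]; exact hg.coeff_natDegree
    rw [e1, e2]
  · rw [coeff_eq_zero_of_natDegree_lt (by omega), coeff_eq_zero_of_natDegree_lt (by omega)]

/-- Abstract counting: classes of `p'`-elements of `G` with the characteristic polynomial as complete invariant. -/
theorem card_classes_eq {F : Type*} [Field F] [Fintype F] {G : Type*} [Group G] [Finite G] (n : ℕ) (P : G → Prop) (S : Set (Fin n → F))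
    (χ : G → F[X]) (hmon : ∀ g, (χ g).Monic) (hdeg : ∀ g, (χ g).natDegree = n)
    (hconj : ∀ g h, IsConj g h → χ g = χ h) (hinj : ∀ g h, P g → P h → χ g = χ h → IsConj g h)
    (hS : ∀ g, P g → (fun i : Fin n => (χ g).coeff i) ∈ S) (hsurj : ∀ a ∈ S, ∃ g, P g ∧ χ g = monicOf n a) :
    Nat.card {c : ConjClasses G // ∃ g : G, ConjClasses.mk g = c ∧ P g} = Nat.card S := by
  have hex : ∀ c : {c : ConjClasses G // ∃ g : G, ConjClasses.mk g = c ∧ P g}, ∃ g : G, ConjClasses.mk g = c.1 ∧ P g := fun c => c.2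
  choose r hr1 hr2 using hex
  apply Nat.card_congr
  refine Equiv.ofBijective (fun c => ⟨fun i : Fin n => (χ (r c)).coeff i, hS _ (hr2 c)⟩) ⟨?_, ?_⟩
  · intro c d hcd
    have h1 : ∀ i : Fin n, (χ (r c)).coeff i = (χ (r d)).coeff i := fun i => congrFun (congrArg Subtype.val hcd) i
    have h2 := hinj _ _ (hr2 c) (hr2 d) (eq_of_coeff n _ _ (hmon _) (hmon _) (hdeg _) (hdeg _) h1)
    apply Subtype.ext
    rw [← hr1 c, ← hr1 d]
    exact ConjClasses.mk_eq_mk_iff_isConj.mpr h2
  · rintro ⟨a, ha⟩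
    obtain ⟨g, hg, hga⟩ := hsurj a ha
    refine ⟨⟨ConjClasses.mk g, g, rfl, hg⟩, ?_⟩
    apply Subtype.ext
    funext i
    have h1 : IsConj (r ⟨ConjClasses.mk g, g, rfl, hg⟩) g := ConjClasses.mk_eq_mk_iff_isConj.mp (hr1 ⟨ConjClasses.mk g, g, rfl, hg⟩)
    change (χ (r ⟨ConjClasses.mk g, g, rfl, hg⟩)).coeff i = a i
    rw [hconj _ _ h1, hga, monicOf_coeff]

end Cfsg.Agent.H41
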