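import Mathlib

/-! Sourour's factorization theorem: a nonscalar invertible matrix is a product of two matrices with
prescribed eigenvalues (subject to the determinant condition). -/

set_option autoImplicit false

open Matrix Polynomial

namespace Cfsg.Agent.H41

variable {F : Type*} [Field F]

/-- Not a scalar matrix. -/
def Nonscalar {κ : Type*} [DecidableEq κ] (A : Matrix κ κ F) : Prop := ∀ c : F, A ≠ c • (1 : Matrix κ κ F)

/-- Similarity of matrices. -/
def Simil {κ : Type*} [Fintype κ] [DecidableEq κ] (A B : Matrix κ κ F) : Prop :=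
  ∃ P : (Matrix κ κ F)ˣ, B = (P : Matrix κ κ F) * A * ((P⁻¹ : (Matrix κ κ F)ˣ) : Matrix κ κ F)

section basics

variable {κ : Type*} [Fintype κ] [DecidableEq κ]

theorem Simil.refl (A : Matrix κ κ F) : Simil A A := ⟨1, by simp⟩

theorem Simil.trans {A B C : Matrix κ κ F} (h1 : Simil A B) (h2 : Simil B C) : Simil A C := by
  obtain ⟨P, rfl⟩ := h1
  obtain ⟨Q, rfl⟩ := h2
  exact ⟨Q * P, by simp [mul_assoc]⟩

theorem Simil.symm {A B : Matrix κ κ F} (h1 : Simil A B) : Simil B A := by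
  obtain ⟨P, rfl⟩ := h1
  exact ⟨P⁻¹, by simp [mul_assoc]⟩

theorem Simil.charpoly_eq {A B : Matrix κ κ F} (h : Simil A B) : A.charpoly = B.charpoly := by
  obtain ⟨P, rfl⟩ := h
  rw [Matrix.coe_units_inv, Matrix.charpoly_units_conj]

theorem Simil.det_eq {A B : Matrix κ κ F} (h : Simil A B) : A.det = B.det := by
  obtain ⟨P, rfl⟩ := h
  rw [Matrix.det_units_conj]

theorem Simil.nonscalar {A B : Matrix κ κ F} (h : Simil A B) (hA : Nonscalar A) : Nonscalar B := by
  obtain ⟨P, hP⟩ := h.symm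
  intro c hc
  apply hA c
  rw [hP, hc]
  simp

/-- The factorization property. -/
def Fact2 (A : Matrix κ κ F) (f g : F[X]) : Prop :=
  ∃ B C : Matrix κ κ F, A = B * C ∧ B.charpoly = f ∧ C.charpoly = g

theorem Fact2.simil {A B : Matrix κ κ F} {f g : F[X]} (h : Simil A B) (hB : Fact2 B f g) : Fact2 A f g := by
  obtain ⟨X, Y, rfl, hX, hY⟩ := hB
  obtain ⟨P, hP⟩ := h.symm
  refine ⟨P * X * ((P⁻¹ : (Matrix κ κ F)ˣ) : Matrix κ κ F), P * Y * ((P⁻¹ : (Matrix κ κ F)ˣ) : Matrix κ κ F), ?_, ?_, ?_⟩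
  · rw [hP]; simp [mul_assoc]
  · rw [Matrix.coe_units_inv, Matrix.charpoly_units_conj]; exact hX
  · rw [Matrix.coe_units_inv, Matrix.charpoly_units_conj]; exact hY

theorem Fact2.reindex {κ' : Type*} [Fintype κ'] [DecidableEq κ'] (e : κ ≃ κ') {A : Matrix κ' κ' F} {f g : F[X]}
    (h : Fact2 (A.submatrix e e) f g) : Fact2 A f g := by
  obtain ⟨X, Y, hXY, hX, hY⟩ := h
  refine ⟨X.submatrix e.symm e.symm, Y.submatrix e.symm e.symm, ?_, ?_, ?_⟩
  · rw [Matrix.submatrix_mul_equiv, ← hXY]; simp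
  · rw [← hX]; exact Matrix.charpoly_reindex e X
  · rw [← hY]; exact Matrix.charpoly_reindex e Y

theorem simil_submatrix_perm (σ : Equiv.Perm κ) (A : Matrix κ κ F) : Simil A (A.submatrix σ σ) := by
  refine ⟨⟨σ.toPEquiv.toMatrix, σ.symm.toPEquiv.toMatrix, ?_, ?_⟩, ?_⟩
  · rw [PEquiv.toMatrix_toPEquiv_mul]
    ext i j
    simp [PEquiv.toMatrix_apply, Matrix.one_apply, Equiv.toPEquiv]
  · rw [PEquiv.toMatrix_toPEquiv_mul]
    ext i j
    simp [PEquiv.toMatrix_apply, Matrix.one_apply, Equiv.toPEquiv]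
  · change _ = σ.toPEquiv.toMatrix * A * σ.symm.toPEquiv.toMatrix
    rw [PEquiv.toMatrix_toPEquiv_mul, PEquiv.mul_toMatrix_toPEquiv]
    ext i j
    simp

end basics

section blocks

variable {κ : Type*} [Fintype κ] [DecidableEq κ]

/-- Upper unitriangular block unit. -/
def upU (t : Matrix Unit κ F) : (Matrix (Unit ⊕ κ) (Unit ⊕ κ) F)ˣ where
  val := fromBlocks 1 t 0 1
  inv := fromBlocks 1 (-t) 0 1
  val_inv := by rw [fromBlocks_multiply]; simp
  inv_val := by rw [fromBlocks_multiply]; simp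

/-- Lower unitriangular block unit. -/
def loU (v : Matrix κ Unit F) : (Matrix (Unit ⊕ κ) (Unit ⊕ κ) F)ˣ where
  val := fromBlocks 1 0 v 1
  inv := fromBlocks 1 0 (-v) 1
  val_inv := by rw [fromBlocks_multiply]; simp
  inv_val := by rw [fromBlocks_multiply]; simp

theorem conj_upU (t : Matrix Unit κ F) (a : Matrix Unit Unit F) (R : Matrix Unit κ F) (S : Matrix κ Unit F)
    (D : Matrix κ κ F) :
    ((upU t : (Matrix (Unit ⊕ κ) (Unit ⊕ κ) F)ˣ) : Matrix (Unit ⊕ κ) (Unit ⊕ κ) F) * fromBlocks a R S D *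
      (((upU t)⁻¹ : (Matrix (Unit ⊕ κ) (Unit ⊕ κ) F)ˣ) : Matrix (Unit ⊕ κ) (Unit ⊕ κ) F) =
    fromBlocks (a + t * S) (R + t * D - (a + t * S) * t) S (D - S * t) := by
  change fromBlocks 1 t 0 1 * fromBlocks a R S D * fromBlocks 1 (-t) 0 1 = _
  rw [fromBlocks_multiply, fromBlocks_multiply]
  simp [sub_eq_add_neg, add_comm]

theorem conj_loU (v : Matrix κ Unit F) (a : Matrix Unit Unit F) (R : Matrix Unit κ F) (S : Matrix κ Unit F)
    (D : Matrix κ κ F) :
    ((loU v : (Matrix (Unit ⊕ κ) (Unit ⊕ κ) F)ˣ) : Matrix (Unit ⊕ κ) (Unit ⊕ κ) F) * fromBlocks a R S D *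
      (((loU v)⁻¹ : (Matrix (Unit ⊕ κ) (Unit ⊕ κ) F)ˣ) : Matrix (Unit ⊕ κ) (Unit ⊕ κ) F) =
    fromBlocks (a - R * v) R (v * a + S - (v * R + D) * v) (v * R + D) := by
  change fromBlocks 1 0 v 1 * fromBlocks a R S D * fromBlocks 1 0 (-v) 1 = _
  rw [fromBlocks_multiply, fromBlocks_multiply]
  simp [sub_eq_add_neg]

/-- Column below the corner can be made nonzero. -/
theorem exists_simil_col_ne_zero (A : Matrix (Unit ⊕ κ) (Unit ⊕ κ) F) (hA : Nonscalar A) :
    ∃ A' : Matrix (Unit ⊕ κ) (Unit ⊕ κ) F, Simil A A' ∧ ∃ k, A' (Sum.inr k) (Sum.inl ()) ≠ 0 := by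
  by_cases h : ∃ i j, i ≠ j ∧ A i j ≠ 0
  · obtain ⟨i, j, hij, hne⟩ := h
    refine ⟨A.submatrix (Equiv.swap j (Sum.inl ())) (Equiv.swap j (Sum.inl ())), simil_submatrix_perm _ A, ?_⟩
    have h1 : (Equiv.swap j (Sum.inl ())) i ≠ Sum.inl () := by
      intro h
      have h3 := Equiv.swap_apply_self j (Sum.inl ()) i
      rw [h, Equiv.swap_apply_right] at h3
      exact hij h3.symm
    obtain ⟨k, hk⟩ : ∃ k, (Equiv.swap j (Sum.inl ())) i = Sum.inr k := by
      rcases h2 : (Equiv.swap j (Sum.inl ())) i with u | k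
      · exact absurd (by rw [h2]) h1
      · exact ⟨k, rfl⟩
    refine ⟨k, ?_⟩
    rw [submatrix_apply, ← hk, Equiv.swap_apply_self, Equiv.swap_apply_right]
    exact hne
  · push Not at h
    have hdiag : ∃ k, A (Sum.inr k) (Sum.inr k) ≠ A (Sum.inl ()) (Sum.inl ()) := by
      by_contra hcon
      push Not at hcon
      apply hA (A (Sum.inl ()) (Sum.inl ()))
      ext i j
      by_cases hij : i = j
      · subst hij
        rcases i with u | k
        · simp
        · simp [hcon k]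
      · rw [h i j hij]; simp [hij]
    obtain ⟨k, hk⟩ := hdiag
    set v : Matrix κ Unit F := Matrix.of fun i _ => if i = k then 1 else 0 with hv
    refine ⟨_, ⟨loU v, rfl⟩, k, ?_⟩
    rw [← fromBlocks_toBlocks A, conj_loU]
    rw [fromBlocks_apply₂₁]
    have hR : A.toBlocks₁₂ = 0 := by
      ext i j; exact h _ _ (by simp)
    have hS : A.toBlocks₂₁ = 0 := by
      ext i j; exact h _ _ (by simp)
    rw [hR, hS]
    have h3 : (A.toBlocks₂₂ * v) k () = A (Sum.inr k) (Sum.inr k) := by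
      simp [Matrix.mul_apply, hv, toBlocks₂₂]
    simp only [Matrix.mul_zero, zero_add, add_zero, Matrix.sub_apply, h3]
    simp [Matrix.mul_apply, hv, toBlocks₁₁]
    intro h4
    exact hk (by linear_combination -h4)

/-- and the corner can be prescribed. -/
theorem exists_simil_corner (A : Matrix (Unit ⊕ κ) (Unit ⊕ κ) F) (hA : Nonscalar A) (α : F) :
    ∃ (R : Matrix Unit κ F) (S : Matrix κ Unit F) (D : Matrix κ κ F),
      Simil A (fromBlocks (α • (1 : Matrix Unit Unit F)) R S D) ∧ ∃ k, S k () ≠ 0 := by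
  obtain ⟨A', hAA', k, hk⟩ := exists_simil_col_ne_zero A hA
  set t : Matrix Unit κ F := Matrix.of fun _ j => if j = k then (α - A' (Sum.inl ()) (Sum.inl ())) / A' (Sum.inr k) (Sum.inl ()) else 0 with ht
  have h1 : A'.toBlocks₁₁ + t * A'.toBlocks₂₁ = α • (1 : Matrix Unit Unit F) := by
    ext i j
    simp [Matrix.mul_apply, ht, toBlocks₁₁, toBlocks₂₁]
    field_simp
    ring
  refine ⟨A'.toBlocks₁₂ + t * A'.toBlocks₂₂ - (A'.toBlocks₁₁ + t * A'.toBlocks₂₁) * t, A'.toBlocks₂₁,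
    A'.toBlocks₂₂ - A'.toBlocks₂₁ * t, hAA'.trans ⟨upU t, ?_⟩, k, hk⟩
  conv_rhs => rw [← fromBlocks_toBlocks A', conj_upU]
  rw [h1]

end blocks

section induction

variable {κ : Type*} [Fintype κ] [DecidableEq κ]

theorem det_corner (α : F) (hα : α ≠ 0) (R : Matrix Unit κ F) (S : Matrix κ Unit F) (D : Matrix κ κ F) :
    (fromBlocks (α • (1 : Matrix Unit Unit F)) R S D).det = α * (D - α⁻¹ • (S * R)).det := by
  have h1 : (fromBlocks (α • (1 : Matrix Unit Unit F)) R S D) =
      fromBlocks (α • (1 : Matrix Unit Unit F)) 0 S (D - α⁻¹ • (S * R)) * fromBlocks 1 (α⁻¹ • R) 0 1 := by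
    rw [fromBlocks_multiply]
    simp [smul_smul, hα]
  rw [h1, det_mul, det_fromBlocks_zero₁₂, det_fromBlocks_zero₂₁]
  simp

theorem exists_simil_corner_nonscalar (A : Matrix (Unit ⊕ κ) (Unit ⊕ κ) F) (hA : Nonscalar A) (hdet : A.det ≠ 0)
    (hκ : 2 ≤ Fintype.card κ) (α : F) (hα : α ≠ 0) :
    ∃ (R : Matrix Unit κ F) (S : Matrix κ Unit F) (D : Matrix κ κ F),
      Simil A (fromBlocks (α • (1 : Matrix Unit Unit F)) R S D) ∧ Nonscalar (D - α⁻¹ • (S * R)) := by
  obtain ⟨R, S, D, hs, k, hk⟩ := exists_simil_corner A hA α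
  by_cases hns : Nonscalar (D - α⁻¹ • (S * R))
  · exact ⟨R, S, D, hs, hns⟩
  · unfold Nonscalar at hns
    push Not at hns
    obtain ⟨c, hc⟩ := hns
    have : Nonempty κ := ⟨k⟩
    have hdet2 := hs.det_eq
    rw [det_corner α hα, hc, Matrix.det_smul, Matrix.det_one, mul_one] at hdet2
    have hc0 : c ≠ 0 := by
      rintro rfl
      rw [zero_pow Fintype.card_ne_zero, mul_zero] at hdet2
      exact hdet hdet2
    obtain ⟨j, hj⟩ : ∃ j, j ≠ k := by
      have : Nontrivial κ := Fintype.one_lt_card_iff_nontrivial.mp (by omega)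
      exact exists_ne k
    set t : Matrix Unit κ F := Matrix.of fun _ i => if i = k then S j () else if i = j then - S k () else 0 with ht
    have htS : t * S = 0 := by
      ext x y
      rw [Matrix.mul_apply]
      have : ∀ i, t x i * S i y = (if i = k then S j () * S k () else 0) + (if i = j then - (S k () * S j ()) else 0) := by
        intro i
        simp only [ht, Matrix.of_apply]
        by_cases h1 : i = k
        · subst h1; simp [hj.symm]
        · by_cases h2 : i = j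
          · subst h2; simp [h1]
          · simp [h1, h2]
      rw [Finset.sum_congr rfl (fun i _ => this i), Finset.sum_add_distrib]
      simp
      ring
    have hD : D = c • 1 + α⁻¹ • (S * R) := by rw [← hc]; abel
    have htD : t * D = c • t := by
      rw [hD, Matrix.mul_add, Matrix.mul_smul, Matrix.mul_smul, ← Matrix.mul_assoc, htS]
      simp
    refine ⟨R + t * D - α • t, S, D - S * t, hs.trans ⟨upU t, ?_⟩, ?_⟩
    · rw [conj_upU, htS]
      simp
    · intro d hd
      have h2 : D - S * t - α⁻¹ • (S * (R + t * D - α • t)) = c • (1 : Matrix κ κ F) - (α⁻¹ * c) • (S * t) := by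
        rw [htD, Matrix.mul_sub, Matrix.mul_add, Matrix.mul_smul, Matrix.mul_smul, smul_sub, smul_add, smul_smul, smul_smul,
          inv_mul_cancel₀ hα, one_smul, ← hc]
        abel
      rw [h2] at hd
      have h3 := congrFun (congrFun hd k) j
      simp [Matrix.mul_apply, ht, hj, hj.symm, hα, hc0, hk] at h3

theorem fact2_corner (α β γ : F) (hβ : β ≠ 0) (hγ : γ ≠ 0) (hα : α = β * γ) (R : Matrix Unit κ F) (S : Matrix κ Unit F)
    (D : Matrix κ κ F) (f g : F[X]) (h : Fact2 (D - α⁻¹ • (S * R)) f g) :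
    Fact2 (fromBlocks (α • (1 : Matrix Unit Unit F)) R S D) ((X - C β) * f) ((X - C γ) * g) := by
  obtain ⟨B0, C0, hBC, hB, hC⟩ := h
  refine ⟨fromBlocks (β • 1) 0 (γ⁻¹ • S) B0, fromBlocks (γ • 1) (β⁻¹ • R) 0 C0, ?_, ?_, ?_⟩
  · rw [fromBlocks_multiply]
    have h1 : D = B0 * C0 + α⁻¹ • (S * R) := by rw [← hBC]; abel
    congr 1
    · simp [hα, smul_smul, mul_comm]
    · simp [smul_smul, hβ]
    · simp [smul_smul, hγ]
    · rw [h1, hα]
      simp [smul_smul, mul_comm, add_comm]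
  · rw [Matrix.charpoly_fromBlocks_zero₁₂, hB]
    congr 1
    simp [Matrix.charpoly, Matrix.charmatrix]
  · rw [Matrix.charpoly_fromBlocks_zero₂₁, hC]
    congr 1
    simp [Matrix.charpoly, Matrix.charmatrix]

end induction

/-- Sourour's theorem. -/
theorem sourour : ∀ (n : ℕ) (A : Matrix (Fin (n + 1)) (Fin (n + 1)) F), (Nonscalar A ∨ n = 0) →
    ∀ β γ : Fin (n + 1) → F, (∀ i, β i ≠ 0) → (∀ i, γ i ≠ 0) → (∏ i, β i) * (∏ i, γ i) = A.det →
      Fact2 A (∏ i, (X - C (β i))) (∏ i, (X - C (γ i))) := by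
  intro n
  induction n with
  | zero =>
    intro A _ β γ hβ hγ hd
    refine ⟨β 0 • 1, γ 0 • 1, ?_, ?_, ?_⟩
    · simp at hd
      ext i j
      fin_cases i; fin_cases j
      simp [← hd, mul_comm]
    · simp [Matrix.charpoly, Matrix.charmatrix]
    · simp [Matrix.charpoly, Matrix.charmatrix]
  | succ n ih =>
    intro A hA β γ hβ hγ hd
    have hA1 : Nonscalar A := by
      rcases hA with h | h
      · exact h
      · omega
    set e : Unit ⊕ Fin (n + 1) ≃ Fin (n + 1 + 1) := (Equiv.sumComm _ _).trans ((Equiv.optionEquivSumPUnit _).symm.trans (finSuccEquiv (n + 1)).symm) with he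
    have hA2 : Nonscalar (A.submatrix e e) := by
      intro c hc
      apply hA1 c
      have : A = (A.submatrix e e).submatrix e.symm e.symm := by simp
      rw [this, hc]
      ext i j
      simp [Matrix.one_apply]
    have hdet2 : (A.submatrix e e).det = A.det := Matrix.det_submatrix_equiv_self e A
    have hdet0 : (A.submatrix e e).det ≠ 0 := by
      rw [hdet2, ← hd]
      exact mul_ne_zero (Finset.prod_ne_zero_iff.mpr fun i _ => hβ i) (Finset.prod_ne_zero_iff.mpr fun i _ => hγ i)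
    have hα : β 0 * γ 0 ≠ 0 := mul_ne_zero (hβ 0) (hγ 0)
    obtain ⟨R, S, D, hs, hns⟩ : ∃ (R : Matrix Unit (Fin (n + 1)) F) (S : Matrix (Fin (n + 1)) Unit F) (D : Matrix (Fin (n + 1)) (Fin (n + 1)) F),
      Simil (A.submatrix e e) (fromBlocks ((β 0 * γ 0) • (1 : Matrix Unit Unit F)) R S D) ∧
        (Nonscalar (D - (β 0 * γ 0)⁻¹ • (S * R)) ∨ n = 0) := by
      by_cases hn : n = 0
      · obtain ⟨R, S, D, hs, -⟩ := exists_simil_corner (A.submatrix e e) hA2 (β 0 * γ 0)
        exact ⟨R, S, D, hs, Or.inr hn⟩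
      · obtain ⟨R, S, D, hs, hns⟩ := exists_simil_corner_nonscalar (A.submatrix e e) hA2 hdet0
          (by rw [Fintype.card_fin]; omega) (β 0 * γ 0) hα
        exact ⟨R, S, D, hs, Or.inl hns⟩
    apply Fact2.reindex e
    apply Fact2.simil hs
    rw [Fin.prod_univ_succ (f := fun i => X - C (β i)), Fin.prod_univ_succ (f := fun i => X - C (γ i))]
    apply fact2_corner _ _ _ (hβ 0) (hγ 0) rfl
    refine ih _ hns (fun i => β i.succ) (fun i => γ i.succ) (fun i => hβ _) (fun i => hγ _) ?_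
    have h3 := hs.det_eq
    rw [det_corner _ hα, hdet2, ← hd, Fin.prod_univ_succ (f := β), Fin.prod_univ_succ (f := γ)] at h3
    apply mul_left_cancel₀ hα
    rw [← h3]
    ring

end Cfsg.Agent.H41
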