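import Mathlib
import Cfsg.Agent.H41.Sourour

/-! Sourour's theorem in `SL_n`. -/

set_option autoImplicit false

open Matrix Polynomial

namespace Cfsg.Agent.H41

variable {F : Type*} [Field F]

theorem simil_diagonal {n : ℕ} (β : Fin n → F) (hβ : Function.Injective β) (B : Matrix (Fin n) (Fin n) F)
    (hB : B.charpoly = ∏ i, (X - C (β i))) : Simil (diagonal β) B := by
  have h1 : ∀ i, ∃ v : Fin n → F, v ≠ 0 ∧ B *ᵥ v = β i • v := by
    intro i
    have h2 : (Matrix.scalar (Fin n) (β i) - B).det = 0 := by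
      rw [← Matrix.eval_charpoly, hB, eval_prod]
      exact Finset.prod_eq_zero (Finset.mem_univ i) (by simp)
    obtain ⟨v, hv0, hv⟩ := Matrix.exists_mulVec_eq_zero_iff.mpr h2
    refine ⟨v, hv0, ?_⟩
    rw [Matrix.sub_mulVec, sub_eq_zero] at hv
    rw [← hv]
    ext j
    simp [Matrix.scalar_apply, Matrix.mulVec_diagonal]
  choose v hv0 hv using h1
  have hli : LinearIndependent F v := by
    apply Module.End.eigenvectors_linearIndependent' (Matrix.toLin' B) β hβ v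
    intro i
    rw [Module.End.hasEigenvector_iff, Module.End.mem_eigenspace_iff]
    exact ⟨by rw [Matrix.toLin'_apply, hv i], hv0 i⟩
  set P : Matrix (Fin n) (Fin n) F := Matrix.of fun i j => v j i with hP
  have hPu : IsUnit P := by
    rw [← Matrix.linearIndependent_cols_iff_isUnit]
    exact hli
  obtain ⟨u, hu⟩ := hPu
  have hBP : B * P = P * diagonal β := by
    ext i j
    rw [Matrix.mul_diagonal]
    have := congrFun (hv j) i
    rw [Matrix.mulVec, dotProduct] at this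
    rw [Matrix.mul_apply]
    simp only [hP, Matrix.of_apply]
    rw [this]
    simp [mul_comm]
  refine ⟨u, ?_⟩
  rw [hu, ← hBP, ← hu]
  simp [mul_assoc]

/-- Elements of `SL` with the same separable split characteristic polynomial are conjugate. -/
theorem sl_conj_of_charpoly {n : ℕ} (β : Fin n → F) (hβ : Function.Injective β)
    (x y : Matrix.SpecialLinearGroup (Fin n) F) (hx : (x : Matrix (Fin n) (Fin n) F).charpoly = ∏ i, (X - C (β i)))
    (hy : (y : Matrix (Fin n) (Fin n) F).charpoly = ∏ i, (X - C (β i))) :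
    ∃ u : Matrix.SpecialLinearGroup (Fin n) F, y = u * x * u⁻¹ := by
  rcases n with _ | n
  · exact ⟨1, Subsingleton.elim _ _⟩
  obtain ⟨P, hP⟩ := simil_diagonal β hβ _ hx
  obtain ⟨Q, hQ⟩ := simil_diagonal β hβ _ hy
  -- y = Q D Q⁻¹, x = P D P⁻¹
  have hdetP : IsUnit (P : Matrix (Fin (n + 1)) (Fin (n + 1)) F).det := (Matrix.isUnit_iff_isUnit_det _).mp P.isUnit
  have hdetQ : IsUnit (Q : Matrix (Fin (n + 1)) (Fin (n + 1)) F).det := (Matrix.isUnit_iff_isUnit_det _).mp Q.isUnit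
  set δ : F := (P : Matrix (Fin (n + 1)) (Fin (n + 1)) F).det * ((Q : Matrix (Fin (n + 1)) (Fin (n + 1)) F).det)⁻¹ with hδ
  set Z : Matrix (Fin (n + 1)) (Fin (n + 1)) F := diagonal (Function.update (fun _ => (1 : F)) 0 δ) with hZ
  have hZdet : Z.det = δ := by
    rw [hZ, det_diagonal, Fin.prod_univ_succ]
    simp
  have hZD : Z * diagonal β = diagonal β * Z := by
    rw [hZ, diagonal_mul_diagonal, diagonal_mul_diagonal]
    congr 1
    ext i
    ring
  set U : Matrix (Fin (n + 1)) (Fin (n + 1)) F := Q * Z * ((P⁻¹ : (Matrix (Fin (n + 1)) (Fin (n + 1)) F)ˣ) : Matrix (Fin (n + 1)) (Fin (n + 1)) F) with hU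
  have hdetinv : (((P⁻¹ : (Matrix (Fin (n + 1)) (Fin (n + 1)) F)ˣ) : Matrix (Fin (n + 1)) (Fin (n + 1)) F)).det =
      ((P : Matrix (Fin (n + 1)) (Fin (n + 1)) F).det)⁻¹ := by
    rw [Matrix.coe_units_inv, Matrix.det_nonsing_inv, Ring.inverse_eq_inv']
  have hUdet : U.det = 1 := by
    rw [hU, det_mul, det_mul, hZdet, hdetinv, hδ]
    have h1 := hdetP.ne_zero
    have h2 := hdetQ.ne_zero
    field_simp
  refine ⟨(⟨U, hUdet⟩ : Matrix.SpecialLinearGroup (Fin (n + 1)) F), eq_mul_inv_of_mul_eq (Subtype.ext ?_)⟩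
  change (y : Matrix (Fin (n + 1)) (Fin (n + 1)) F) * U = U * (x : Matrix (Fin (n + 1)) (Fin (n + 1)) F)
  have hPi : ((P⁻¹ : (Matrix (Fin (n + 1)) (Fin (n + 1)) F)ˣ) : Matrix (Fin (n + 1)) (Fin (n + 1)) F) * P = 1 := by simp
  have hQi : ((Q⁻¹ : (Matrix (Fin (n + 1)) (Fin (n + 1)) F)ˣ) : Matrix (Fin (n + 1)) (Fin (n + 1)) F) * Q = 1 := by simp
  calc (y : Matrix (Fin (n + 1)) (Fin (n + 1)) F) * U
      = Q * diagonal β * (((Q⁻¹ : (Matrix (Fin (n + 1)) (Fin (n + 1)) F)ˣ) : Matrix (Fin (n + 1)) (Fin (n + 1)) F) * Q) * Z *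
          ((P⁻¹ : (Matrix (Fin (n + 1)) (Fin (n + 1)) F)ˣ) : Matrix (Fin (n + 1)) (Fin (n + 1)) F) := by
        rw [hQ, hU]; simp only [mul_assoc]
    _ = Q * (Z * diagonal β) * ((P⁻¹ : (Matrix (Fin (n + 1)) (Fin (n + 1)) F)ˣ) : Matrix (Fin (n + 1)) (Fin (n + 1)) F) := by
        rw [hQi, mul_one, mul_assoc (Q : Matrix (Fin (n + 1)) (Fin (n + 1)) F), ← hZD]
    _ = Q * Z * (((P⁻¹ : (Matrix (Fin (n + 1)) (Fin (n + 1)) F)ˣ) : Matrix (Fin (n + 1)) (Fin (n + 1)) F) * P) * diagonal β *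
          ((P⁻¹ : (Matrix (Fin (n + 1)) (Fin (n + 1)) F)ˣ) : Matrix (Fin (n + 1)) (Fin (n + 1)) F) := by
        rw [hPi, mul_one]; simp only [mul_assoc]
    _ = U * (x : Matrix (Fin (n + 1)) (Fin (n + 1)) F) := by
        rw [hP, hU]; simp only [mul_assoc]

theorem det_eq_prod_of_charpoly {n : ℕ} (β : Fin n → F) (B : Matrix (Fin n) (Fin n) F)
    (hB : B.charpoly = ∏ i, (X - C (β i))) : B.det = ∏ i, β i := by
  rw [Matrix.det_eq_sign_charpoly_coeff, hB, coeff_zero_eq_eval_zero, eval_prod]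
  simp only [eval_sub, eval_X, eval_C, zero_sub, Fintype.card_fin]
  rw [Finset.prod_neg]
  simp only [Finset.card_univ, Fintype.card_fin]
  rw [← mul_assoc, ← mul_pow]
  simp

/-- Sourour in `SL`. -/
theorem sourour_sl {n : ℕ} (A : Matrix.SpecialLinearGroup (Fin (n + 1)) F)
    (hA : Nonscalar (A : Matrix (Fin (n + 1)) (Fin (n + 1)) F))
    (β γ : Fin (n + 1) → F) (hβ : ∏ i, β i = 1) (hγ : ∏ i, γ i = 1) :
    ∃ B C : Matrix.SpecialLinearGroup (Fin (n + 1)) F, A = B * C ∧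
      (B : Matrix (Fin (n + 1)) (Fin (n + 1)) F).charpoly = ∏ i, (X - Polynomial.C (β i)) ∧
      (C : Matrix (Fin (n + 1)) (Fin (n + 1)) F).charpoly = ∏ i, (X - Polynomial.C (γ i)) := by
  have hβ0 : ∀ i, β i ≠ 0 := by
    intro i hi
    rw [Finset.prod_eq_zero (Finset.mem_univ i) hi] at hβ
    exact zero_ne_one hβ
  have hγ0 : ∀ i, γ i ≠ 0 := by
    intro i hi
    rw [Finset.prod_eq_zero (Finset.mem_univ i) hi] at hγ
    exact zero_ne_one hγ
  obtain ⟨B, C, hBC, hB, hC⟩ := sourour n (A : Matrix (Fin (n + 1)) (Fin (n + 1)) F) (Or.inl hA) β γ hβ0 hγ0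
    (by rw [hβ, hγ, Matrix.SpecialLinearGroup.det_coe, one_mul])
  refine ⟨⟨B, by rw [det_eq_prod_of_charpoly β B hB, hβ]⟩, ⟨C, by rw [det_eq_prod_of_charpoly γ C hC, hγ]⟩, ?_, hB, hC⟩
  exact Subtype.ext hBC

theorem nonscalar_of_notMem_center {n : ℕ} (A : Matrix.SpecialLinearGroup (Fin n) F)
    (hA : A ∉ Subgroup.center (Matrix.SpecialLinearGroup (Fin n) F)) :
    Nonscalar (A : Matrix (Fin n) (Fin n) F) := by
  intro c hc
  apply hA
  rw [Matrix.SpecialLinearGroup.mem_center_iff]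
  refine ⟨c, ?_, ?_⟩
  · have := A.2
    rw [hc, det_smul, det_one, mul_one] at this
    exact this
  · rw [hc]
    simp [Matrix.smul_one_eq_diagonal]

end Cfsg.Agent.H41
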