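import Mathlib
import Cfsg.Agent.H4.CardSL

/-! Eigenvalues of elements of finite order in linear groups over finite fields, and elements of
prescribed order. -/

set_option autoImplicit false
set_option linter.unusedSimpArgs false

open Matrix Polynomial

namespace Cfsg.Agent.H41

variable {F : Type*} [Field F]

section eig

variable {ι : Type*} [Fintype ι] [DecidableEq ι]

/-- If `h ^ m = 1` with `m` prime to the characteristic and all eigenvalues satisfy `λ ^ d = 1` then `h ^ d = 1`. -/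
theorem pow_eq_one_of_eig {K : Type*} [Field K] [IsAlgClosed K] [Algebra F K] (h : Matrix ι ι F) (m d : ℕ)
    (hm : (m : F) ≠ 0) (hpow : h ^ m = 1) (hall : ∀ l : K, (h.charpoly.map (algebraMap F K)).IsRoot l → l ^ d = 1) :
    h ^ d = 1 := by
  have hint : IsIntegral F h := Matrix.isIntegral h
  have hdvd : minpoly F h ∣ X ^ m - 1 := by
    apply minpoly.dvd
    simp [hpow]
  have hsep : (minpoly F h).Separable := (Polynomial.separable_X_pow_sub_C (1 : F) hm one_ne_zero).of_dvd (by simpa using hdvd)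
  have hsepK : ((minpoly F h).map (algebraMap F K)).Separable := hsep.map
  have hchar : minpoly F h ∣ h.charpoly := Matrix.minpoly_dvd_charpoly h
  have hdvdK : (minpoly F h).map (algebraMap F K) ∣ (X ^ d - 1 : F[X]).map (algebraMap F K) := by
    have hspl : ((minpoly F h).map (algebraMap F K)).Splits := IsAlgClosed.splits _
    have hne : (minpoly F h).map (algebraMap F K) ≠ 0 := hsepK.ne_zero
    by_cases hz : (X ^ d - 1 : F[X]).map (algebraMap F K) = 0
    · rw [hz]; exact dvd_zero _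
    rw [hspl.dvd_iff_roots_le_roots hne hz]
    rw [Multiset.le_iff_subset (nodup_roots hsepK)]
    intro l hl
    rw [mem_roots hne] at hl
    rw [mem_roots hz]
    have h1 : (h.charpoly.map (algebraMap F K)).IsRoot l := hl.dvd (Polynomial.map_dvd _ hchar)
    have h2 := hall l h1
    simp [h2]
  have hdvdF : minpoly F h ∣ (X ^ d - 1 : F[X]) := (Polynomial.map_dvd_map' (algebraMap F K)).mp hdvdK
  obtain ⟨c, hc⟩ := hdvdF
  have h3 : aeval h (X ^ d - 1 : F[X]) = 0 := by
    rw [hc, map_mul, minpoly.aeval, zero_mul]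
  rw [map_sub, map_pow, aeval_X, map_one, sub_eq_zero] at h3
  exact h3

/-- Eigenvalues satisfy `λ ^ m = 1`. -/
theorem eig_pow_eq_one {K : Type*} [Field K] [Algebra F K] (h : Matrix ι ι F) (m : ℕ) (hpow : h ^ m = 1) (l : K)
    (hl : (h.charpoly.map (algebraMap F K)).IsRoot l) : l ^ m = 1 := by
  have h1 : (h.map (algebraMap F K)).charpoly = h.charpoly.map (algebraMap F K) := Matrix.charpoly_map _ _
  rw [← h1, IsRoot.def, Matrix.eval_charpoly] at hl
  obtain ⟨v, hv0, hv⟩ := Matrix.exists_mulVec_eq_zero_iff.mpr hl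
  have hv2 : (h.map (algebraMap F K)) *ᵥ v = l • v := by
    rw [Matrix.sub_mulVec, sub_eq_zero] at hv
    rw [← hv]
    ext j
    simp [Matrix.scalar_apply, Matrix.mulVec_diagonal]
  have hv3 : ∀ k : ℕ, ((h.map (algebraMap F K)) ^ k) *ᵥ v = l ^ k • v := by
    intro k
    induction k with
    | zero => simp
    | succ k ih => rw [pow_succ, ← Matrix.mulVec_mulVec, hv2, Matrix.mulVec_smul, ih, smul_smul, pow_succ, mul_comm]
  have hpowK : (h.map (algebraMap F K)) ^ m = 1 := by
    have : (h.map (algebraMap F K)) ^ m = (h ^ m).map (algebraMap F K) := by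
      have := map_pow (algebraMap F K).mapMatrix h m
      exact this.symm
    rw [this, hpow, Matrix.map_one _ (map_zero _) (map_one _)]
  have h4 := hv3 m
  rw [hpowK, Matrix.one_mulVec] at h4
  have h5 : (l ^ m - 1) • v = 0 := by rw [sub_smul, one_smul, ← h4, sub_self]
  rcases smul_eq_zero.mp h5 with h | h
  · exact sub_eq_zero.mp h
  · exact absurd h hv0

/-- Frobenius acts on roots. -/
theorem isRoot_frob [Fintype F] {K : Type*} [Field K] [Algebra F K] (f : F[X]) (l : K)
    (hl : (f.map (algebraMap F K)).IsRoot l) (i : ℕ) : (f.map (algebraMap F K)).IsRoot (l ^ (Fintype.card F ^ i)) := by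
  induction i with
  | zero => simpa using hl
  | succ i ih =>
    rw [pow_succ, pow_mul]
    rw [IsRoot.def, eval_map_algebraMap] at ih ⊢
    change aeval (FiniteField.frobeniusAlgHom F K (l ^ Fintype.card F ^ i)) f = 0
    rw [Polynomial.aeval_algHom_apply, ih, map_zero]

/-- The orbit of an eigenvalue of order `N` has `ord_N(q)` elements. -/
theorem card_orbit {F : Type*} [Fintype F] {K : Type*} [Field K] [DecidableEq K] (l : K) (N : ℕ) (hN : N ≠ 0) (hl : orderOf l = N) (k : ℕ)
    (hk : k = orderOf ((Fintype.card F : ℕ) : ZMod N)) :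
    ((Finset.range k).image fun i => l ^ (Fintype.card F ^ i)).card = k := by
  classical
  rw [Finset.card_image_of_injOn, Finset.card_range]
  intro i hi j hj hij
  simp only [Finset.coe_range, Set.mem_Iio] at hi hj
  have hl0 : l ≠ 0 := by
    rintro rfl
    apply hN
    rw [← hl, orderOf_eq_zero_iff']
    intro n hn h
    rw [zero_pow hn.ne'] at h
    exact zero_ne_one h
  have h1 : Fintype.card F ^ i ≡ Fintype.card F ^ j [MOD N] := by
    have := pow_inj_mod (G := Kˣ) (x := Units.mk0 l hl0) (n := Fintype.card F ^ i) (m := Fintype.card F ^ j)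
    have hlo : orderOf (Units.mk0 l hl0) = N := by rw [← hl, ← orderOf_units]; rfl
    rw [hlo] at this
    apply this.mp
    apply Units.ext
    push_cast
    exact hij
  have h2 : ((Fintype.card F : ℕ) : ZMod N) ^ i = ((Fintype.card F : ℕ) : ZMod N) ^ j := by
    rw [← Nat.cast_pow, ← Nat.cast_pow]
    exact (ZMod.natCast_eq_natCast_iff _ _ _).mpr h1
  rw [hk] at hi hj
  exact pow_injOn_Iio_orderOf hi hj h2

end eig

section constr

/-- An element of order `d` in `GL_e(F)` when `d ∣ q^e - 1`; we give commuting elements for two orders. -/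
theorem exists_commuting_matrix [Finite F] (e d₁ d₂ : ℕ) (he : e ≠ 0) (h₁ : d₁ ∣ Nat.card F ^ e - 1) (h₂ : d₂ ∣ Nat.card F ^ e - 1) :
    ∃ A B : Matrix (Fin e) (Fin e) F, A * B = B * A ∧ (∀ j, A ^ j = 1 ↔ d₁ ∣ j) ∧ (∀ j, B ^ j = 1 ↔ d₂ ∣ j) := by
  obtain ⟨p, hp⟩ := CharP.exists F
  have hpp : Fact p.Prime := ⟨CharP.char_is_prime F p⟩
  have : NeZero e := ⟨he⟩
  let K := FiniteField.Extension F p e
  have hfr : Module.finrank F K = e := FiniteField.finrank_extension F p e
  have hcard : Nat.card K = Nat.card F ^ e := FiniteField.natCard_extension F p e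
  have : Finite K := Module.finite_of_finite F
  have hcu : Nat.card Kˣ = Nat.card F ^ e - 1 := by rw [Nat.card_units, hcard]
  let b : Module.Basis (Fin e) F K := (Module.finBasis F K).reindex (finCongr hfr)
  have hcyc : ∀ d : ℕ, d ∣ Nat.card F ^ e - 1 → ∃ z : Kˣ, orderOf z = d := by
    intro d hd
    rw [← hcu] at hd
    obtain ⟨g, hg⟩ := IsCyclic.exists_generator (α := Kˣ)
    have hgo : orderOf g = Nat.card Kˣ := orderOf_eq_card_of_forall_mem_zpowers hg
    obtain ⟨c, hc⟩ := hd
    have hpos : 0 < Nat.card Kˣ := Nat.card_pos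
    have hc0 : c ≠ 0 := by rintro rfl; omega
    have hd0 : 0 < d := by
      rcases Nat.eq_zero_or_pos d with h | h
      · rw [h, zero_mul] at hc; omega
      · exact h
    refine ⟨g ^ c, ?_⟩
    rw [orderOf_pow_of_dvd hc0 (by rw [hgo, hc]; exact dvd_mul_left _ _), hgo, hc]
    exact Nat.mul_div_cancel _ (Nat.pos_of_ne_zero hc0)
  obtain ⟨z₁, hz₁⟩ := hcyc d₁ h₁
  obtain ⟨z₂, hz₂⟩ := hcyc d₂ h₂
  have key : ∀ (z : Kˣ) (j : ℕ), (Algebra.leftMulMatrix b (z : K)) ^ j = 1 ↔ orderOf z ∣ j := by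
    intro z j
    have h1 : (1 : Matrix (Fin e) (Fin e) F) = Algebra.leftMulMatrix b (1 : K) := (map_one _).symm
    rw [← map_pow, orderOf_dvd_iff_pow_eq_one, h1, (Algebra.leftMulMatrix_injective b).eq_iff]
    constructor
    · intro h; apply Units.ext; push_cast; exact h
    · intro h; rw [← Units.val_pow_eq_pow_val, h]; rfl
  refine ⟨Algebra.leftMulMatrix b (z₁ : K), Algebra.leftMulMatrix b (z₂ : K), ?_, ?_, ?_⟩
  · rw [← map_mul, ← map_mul, mul_comm]
  · intro j; rw [key, hz₁]
  · intro j; rw [key, hz₂]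

end constr

section psl

variable [Fintype F]

/-- divisibility of the order of `PSL_n`. -/
theorem exists_dvd_of_dvd_card_psl (n r : ℕ) (hr : r.Prime) (p : ℕ) [Fact p.Prime] [CharP F p] (hrp : r ≠ p)
    (hrG : r ∣ Nat.card (Matrix.ProjectiveSpecialLinearGroup (Fin n) F)) :
    ∃ i, 1 ≤ i ∧ i ≤ n ∧ r ∣ Fintype.card F ^ i - 1 := by
  have h1 : Nat.card (Matrix.ProjectiveSpecialLinearGroup (Fin n) F) ∣ Nat.card (Matrix.SpecialLinearGroup (Fin n) F) :=
    Subgroup.card_quotient_dvd_card _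
  have h2 : Nat.card (Matrix.SpecialLinearGroup (Fin n) F) ∣ Nat.card (GL (Fin n) F) := by
    have hinj : Function.Injective (Matrix.SpecialLinearGroup.toGL : Matrix.SpecialLinearGroup (Fin n) F →* GL (Fin n) F) := by
      intro a b hab
      apply Subtype.ext
      exact congrArg (fun g : GL (Fin n) F => (g : Matrix (Fin n) (Fin n) F)) hab
    exact Subgroup.card_dvd_of_injective _ hinj
  have h3 := (hrG.trans h1).trans h2
  rw [Matrix.card_GL_field, hr.prime.dvd_finsetProd_iff] at h3
  obtain ⟨i, -, hi⟩ := h3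
  have hin := i.2
  refine ⟨n - i, by omega, by omega, ?_⟩
  have h4 : Fintype.card F ^ n - Fintype.card F ^ (i : ℕ) = Fintype.card F ^ (i : ℕ) * (Fintype.card F ^ (n - i) - 1) := by
    rw [Nat.mul_sub, mul_one, ← pow_add]
    congr 2; omega
  rw [h4, hr.dvd_mul] at hi
  rcases hi with h | h
  · exfalso
    have h5 := hr.dvd_of_dvd_pow h
    obtain ⟨m, hm⟩ := FiniteField.card F p
    rw [hm.2] at h5
    exact hrp ((Nat.prime_dvd_prime_iff_eq hr Fact.out).mp (hr.dvd_of_dvd_pow h5))
  · exact h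

theorem order_dvd_iff (r i k : ℕ) (hr : r.Prime) (hk : k = orderOf ((Fintype.card F : ℕ) : ZMod r)) :
    r ∣ Fintype.card F ^ i - 1 ↔ k ∣ i := by
  have hpos : 1 ≤ Fintype.card F ^ i := Nat.one_le_pow _ _ Fintype.card_pos
  have h1 : ((Fintype.card F ^ i - 1 : ℕ) : ZMod r) = ((Fintype.card F : ℕ) : ZMod r) ^ i - 1 := by
    rw [Nat.cast_sub hpos]; push_cast; rfl
  rw [hk, orderOf_dvd_iff_pow_eq_one, ← sub_eq_zero, ← h1, ZMod.natCast_eq_zero_iff]

/-- Elements of prime order `r ∤ q - 1` of `GL_n` lie in `SL_n` and survive in `PSL_n`. -/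
theorem det_eq_one_of_pow (n r : ℕ) (hr : r.Prime) (hrq : ¬ r ∣ Fintype.card F - 1) (A : Matrix (Fin n) (Fin n) F) (hA : A ^ r = 1) :
    A.det = 1 := by
  have h1 : A.det ^ r = 1 := by rw [← det_pow, hA, det_one]
  have h0 : A.det ≠ 0 := by
    intro h; rw [h, zero_pow hr.ne_zero] at h1; exact zero_ne_one h1
  have h2 : A.det ^ (Fintype.card F - 1) = 1 := FiniteField.pow_card_sub_one_eq_one _ h0
  have h3 := orderOf_dvd_of_pow_eq_one h1
  have h4 := orderOf_dvd_of_pow_eq_one h2
  rcases (Nat.dvd_prime hr).mp h3 with h | h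
  · exact orderOf_eq_one_iff.mp h
  · rw [h] at h4; exact absurd h4 hrq

theorem orderOf_mk_eq (n r : ℕ) (hr : r.Prime) (hrq : ¬ r ∣ Fintype.card F - 1) (A : Matrix.SpecialLinearGroup (Fin n) F)
    (hA : A ^ r = 1) (hne : A ≠ 1) :
    orderOf (QuotientGroup.mk A : Matrix.ProjectiveSpecialLinearGroup (Fin n) F) = r := by
  have : Fact r.Prime := ⟨hr⟩
  apply orderOf_eq_prime
  · rw [← QuotientGroup.mk_pow, hA]; rfl
  · intro h
    have hc : A ∈ Subgroup.center (Matrix.SpecialLinearGroup (Fin n) F) := (QuotientGroup.eq_one_iff A).mp h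
    rw [Matrix.SpecialLinearGroup.mem_center_iff] at hc
    obtain ⟨c, hc1, hc2⟩ := hc
    rcases n with _ | n
    · exact hne (Subsingleton.elim _ _)
    have hcr : c ^ r = 1 := by
      have h1 := congrArg (fun M : Matrix.SpecialLinearGroup (Fin (n + 1)) F => (M : Matrix (Fin (n + 1)) (Fin (n + 1)) F) 0 0) hA
      simp only [Matrix.SpecialLinearGroup.coe_pow, Matrix.SpecialLinearGroup.coe_one] at h1
      rw [← hc2, ← map_pow] at h1
      simpa using h1
    have hc0 : c ≠ 0 := by
      intro h; rw [h, zero_pow hr.ne_zero] at hcr; exact zero_ne_one hcr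
    have h2 : c ^ (Fintype.card F - 1) = 1 := FiniteField.pow_card_sub_one_eq_one _ hc0
    have h3 := orderOf_dvd_of_pow_eq_one hcr
    have h4 := orderOf_dvd_of_pow_eq_one h2
    rcases (Nat.dvd_prime hr).mp h3 with h5 | h5
    · have h6 : c = 1 := orderOf_eq_one_iff.mp h5
      apply hne
      apply Subtype.ext
      rw [← hc2, h6, map_one]; rfl
    · rw [h5] at h4; exact absurd h4 hrq

end psl

section psl2

variable [Fintype F]

theorem range_of_commuting {ι : Type*} [Fintype ι] [DecidableEq ι] (n r s : ℕ) (hι : Fintype.card ι = n) (hr : r.Prime) (hs : s.Prime)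
    (hrs : r ≠ s) (hrq : ¬ r ∣ Fintype.card F - 1) (hsq : ¬ s ∣ Fintype.card F - 1) (X Y : Matrix ι ι F) (hXY : X * Y = Y * X)
    (hX : X ^ r = 1) (hX1 : X ≠ 1) (hY : Y ^ s = 1) (hY1 : Y ≠ 1) :
    r * s ∈ Set.range (orderOf : Matrix.ProjectiveSpecialLinearGroup (Fin n) F → ℕ) := by
  let e : ι ≃ Fin n := Fintype.equivFinOfCardEq hι
  let φ := Matrix.reindexAlgEquiv F F e
  have h1 : (φ X) ^ r = 1 := by rw [← map_pow, hX, map_one]
  have h2 : (φ Y) ^ s = 1 := by rw [← map_pow, hY, map_one]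
  let A : Matrix.SpecialLinearGroup (Fin n) F := ⟨φ X, det_eq_one_of_pow n r hr hrq _ h1⟩
  let B : Matrix.SpecialLinearGroup (Fin n) F := ⟨φ Y, det_eq_one_of_pow n s hs hsq _ h2⟩
  have hA : A ^ r = 1 := Subtype.ext h1
  have hB : B ^ s = 1 := Subtype.ext h2
  have hA1 : A ≠ 1 := by
    intro h
    apply hX1
    apply φ.injective
    rw [map_one]
    exact congrArg Subtype.val h
  have hB1 : B ≠ 1 := by
    intro h
    apply hY1
    apply φ.injective
    rw [map_one]
    exact congrArg Subtype.val h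
  have hAB : A * B = B * A := by
    apply Subtype.ext
    change φ X * φ Y = φ Y * φ X
    rw [← map_mul, hXY, map_mul]
  have o1 := orderOf_mk_eq n r hr hrq A hA hA1
  have o2 := orderOf_mk_eq n s hs hsq B hB hB1
  refine ⟨QuotientGroup.mk A * QuotientGroup.mk B, ?_⟩
  have hcomm : Commute (QuotientGroup.mk A : Matrix.ProjectiveSpecialLinearGroup (Fin n) F) (QuotientGroup.mk B) := by
    change QuotientGroup.mk (A * B) = QuotientGroup.mk (B * A)
    rw [hAB]
  rw [hcomm.orderOf_mul_eq_mul_orderOf_of_coprime (by rw [o1, o2]; exact (Nat.coprime_primes hr hs).mpr hrs), o1, o2]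

end psl2

end Cfsg.Agent.H41
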