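import Mathlib
import Cfsg.Agent.H41.SourourSL
import Cfsg.Agent.H41.SpecLin

/-! If `x` has separable characteristic polynomial then no element of order `p` commutes with it. -/

set_option autoImplicit false
set_option linter.unusedSimpArgs false

open Matrix Polynomial

namespace Cfsg.Agent.H41

theorem exists_roots_fun {K : Type*} [Field K] [IsAlgClosed K] (n : ℕ) (f : K[X]) (hf : f.Monic) (hdeg : f.natDegree = n) :
    ∃ β : Fin n → K, f = ∏ i, (X - C (β i)) ∧ (f.Separable → Function.Injective β) := by
  classical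
  have hsp : f.Splits := IsAlgClosed.splits f
  have hcard : f.roots.card = n := by rw [← hdeg]; exact hsp.natDegree_eq_card_roots.symm
  have hlen : f.roots.toList.length = n := by rw [Multiset.length_toList, hcard]
  refine ⟨fun i => f.roots.toList.get (Fin.cast hlen.symm i), ?_, ?_⟩
  · have h1 : f = (f.roots.map fun a => X - C a).prod := by
      have := hsp.eq_prod_roots
      rw [hf.leadingCoeff, C_1, one_mul] at this
      exact this
    have h2 : (f.roots.map fun a => X - C a).prod = (f.roots.toList.map fun a => X - C a).prod := by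
      rw [← Multiset.prod_coe, ← Multiset.map_coe, Multiset.coe_toList]
    rw [← List.prod_ofFn]
    refine h1.trans (h2.trans ?_)
    congr 1
    apply List.ext_get
    · simp [hlen]
    · intro i h1 h2
      simp
  · intro hsep
    have hnd : f.roots.toList.Nodup := by
      rw [← Multiset.coe_nodup, Multiset.coe_toList]
      exact nodup_roots hsep
    intro i j hij
    have := (List.nodup_iff_injective_get.mp hnd) hij
    exact Fin.cast_injective _ this

/-- Elements of order `p` do not commute with an element with separable characteristic polynomial. -/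
theorem eq_one_of_commute_separable {F : Type*} [Field F] (p : ℕ) [Fact p.Prime] [CharP F p] {n : ℕ} (x u : Matrix (Fin n) (Fin n) F)
    (hsep : x.charpoly.Separable) (hxu : x * u = u * x) (hu : u ^ p = 1) : u = 1 := by
  let K := AlgebraicClosure F
  have hcp : CharP K p := charP_of_injective_algebraMap (algebraMap F K).injective p
  have h1 : (x.map (algebraMap F K)).charpoly = x.charpoly.map (algebraMap F K) := Matrix.charpoly_map _ _
  obtain ⟨β, hβ, hinj⟩ := exists_roots_fun (K := K) n (x.charpoly.map (algebraMap F K)) ((Matrix.charpoly_monic x).map _)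
    (by rw [natDegree_map, Matrix.charpoly_natDegree_eq_dim, Fintype.card_fin])
  have hβi := hinj (hsep.map)
  obtain ⟨P, hP⟩ := simil_diagonal β hβi (x.map (algebraMap F K)) (by rw [h1, hβ])
  -- `u'` commutes with the diagonal matrix
  set u' : Matrix (Fin n) (Fin n) K := ((P⁻¹ : (Matrix (Fin n) (Fin n) K)ˣ) : Matrix (Fin n) (Fin n) K) * u.map (algebraMap F K) * P with hu'
  have hmm : ∀ a b : Matrix (Fin n) (Fin n) F, (a * b).map (algebraMap F K) = a.map (algebraMap F K) * b.map (algebraMap F K) :=
    fun a b => Matrix.map_mul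
  have hcomm : x.map (algebraMap F K) * u.map (algebraMap F K) = u.map (algebraMap F K) * x.map (algebraMap F K) := by
    rw [← hmm, hxu, hmm]
  have hdu : diagonal β * u' = u' * diagonal β := by
    have h2 : diagonal β = ((P⁻¹ : (Matrix (Fin n) (Fin n) K)ˣ) : Matrix (Fin n) (Fin n) K) * x.map (algebraMap F K) * P := by
      rw [hP]; simp [mul_assoc]
    rw [h2, hu']
    have h3 : (P : Matrix (Fin n) (Fin n) K) * ((P⁻¹ : (Matrix (Fin n) (Fin n) K)ˣ) : Matrix (Fin n) (Fin n) K) = 1 := by simp
    calc _ = ((P⁻¹ : (Matrix (Fin n) (Fin n) K)ˣ) : Matrix (Fin n) (Fin n) K) * x.map (algebraMap F K) *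
          ((P : Matrix (Fin n) (Fin n) K) * ((P⁻¹ : (Matrix (Fin n) (Fin n) K)ˣ) : Matrix (Fin n) (Fin n) K)) * u.map (algebraMap F K) * P := by
          simp only [mul_assoc]
      _ = ((P⁻¹ : (Matrix (Fin n) (Fin n) K)ˣ) : Matrix (Fin n) (Fin n) K) * (x.map (algebraMap F K) * u.map (algebraMap F K)) * P := by
          rw [h3, mul_one]; simp only [mul_assoc]
      _ = ((P⁻¹ : (Matrix (Fin n) (Fin n) K)ˣ) : Matrix (Fin n) (Fin n) K) * u.map (algebraMap F K) *
          ((P : Matrix (Fin n) (Fin n) K) * ((P⁻¹ : (Matrix (Fin n) (Fin n) K)ˣ) : Matrix (Fin n) (Fin n) K)) * x.map (algebraMap F K) * P := by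
          rw [h3, mul_one, hcomm]; simp only [mul_assoc]
      _ = _ := by simp only [mul_assoc]
  have hoff : ∀ i j, i ≠ j → u' i j = 0 := by
    intro i j hij
    have h2 := congrFun (congrFun hdu i) j
    rw [Matrix.diagonal_mul, Matrix.mul_diagonal] at h2
    have h3 : (β i - β j) * u' i j = 0 := by linear_combination h2
    rcases mul_eq_zero.mp h3 with h | h
    · exact absurd (hβi (sub_eq_zero.mp h)) hij
    · exact h
  have hdiag : u' = diagonal (fun i => u' i i) := by
    ext i j
    by_cases hij : i = j
    · subst hij; simp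
    · rw [diagonal_apply_ne _ hij, hoff i j hij]
  have hup : u' ^ p = 1 := by
    have h2 : ∀ k : ℕ, u' ^ k = ((P⁻¹ : (Matrix (Fin n) (Fin n) K)ˣ) : Matrix (Fin n) (Fin n) K) * (u.map (algebraMap F K)) ^ k * P := by
      intro k
      induction k with
      | zero => simp
      | succ k ih =>
        rw [pow_succ, ih, hu', pow_succ]
        have h3 : (P : Matrix (Fin n) (Fin n) K) * ((P⁻¹ : (Matrix (Fin n) (Fin n) K)ˣ) : Matrix (Fin n) (Fin n) K) = 1 := by simp
        calc _ = ((P⁻¹ : (Matrix (Fin n) (Fin n) K)ˣ) : Matrix (Fin n) (Fin n) K) * (u.map (algebraMap F K)) ^ k *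
              ((P : Matrix (Fin n) (Fin n) K) * ((P⁻¹ : (Matrix (Fin n) (Fin n) K)ˣ) : Matrix (Fin n) (Fin n) K)) * u.map (algebraMap F K) * P := by
              simp only [mul_assoc]
          _ = _ := by rw [h3, mul_one]; simp only [mul_assoc]
    have h4 : (u.map (algebraMap F K)) ^ p = 1 := by
      have h5 : (u.map (algebraMap F K)) ^ p = (u ^ p).map (algebraMap F K) := (map_pow (algebraMap F K).mapMatrix u p).symm
      rw [h5, hu, Matrix.map_one _ (map_zero _) (map_one _)]
    rw [h2, h4]; simp
  have hone : u' = 1 := by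
    rw [hdiag, Matrix.diagonal_pow] at hup
    rw [hdiag, ← Matrix.diagonal_one]
    congr 1
    ext i
    have h2 := congrFun (congrFun hup i) i
    rw [diagonal_apply_eq, one_apply_eq] at h2
    have h3 : (u' i i - 1) ^ p = 0 := by
      rw [sub_pow_char, one_pow, sub_eq_zero]; exact h2
    exact sub_eq_zero.mp (pow_eq_zero_iff (Fact.out : p.Prime).ne_zero |>.mp h3)
  have hmap : u.map (algebraMap F K) = 1 := by
    have h2 : u.map (algebraMap F K) = (P : Matrix (Fin n) (Fin n) K) * u' * ((P⁻¹ : (Matrix (Fin n) (Fin n) K)ˣ) : Matrix (Fin n) (Fin n) K) := by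
      rw [hu']; simp [mul_assoc]
    rw [h2, hone]; simp
  ext i j
  have h2 := congrFun (congrFun hmap i) j
  rw [Matrix.map_apply, Matrix.one_apply] at h2
  rw [Matrix.one_apply]
  split_ifs at h2 ⊢ with h
  · exact (algebraMap F K).injective (by rw [h2, map_one])
  · exact (algebraMap F K).injective (by rw [h2, map_zero])

end Cfsg.Agent.H41
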