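import Mathlib
import Cfsg.Agent.H41.SepCent

/-! Commuting elements of prime orders in `PSL_n`. -/

set_option autoImplicit false
set_option linter.unusedSimpArgs false

open Matrix Polynomial

namespace Cfsg.Agent.H41

/-- Commuting elements of `SL_n` of prime order modulo scalars. -/
theorem range_of_commuting_mod {F : Type*} [Field F] {ι : Type*} [Fintype ι] [DecidableEq ι] (n r s : ℕ) (hι : Fintype.card ι = n)
    (hr : r.Prime) (hs : s.Prime)
    (hrs : r ≠ s) (X Y : Matrix ι ι F) (hXY : X * Y = Y * X) (hXd : X.det = 1) (hYd : Y.det = 1)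
    (hX : ∃ c : F, X ^ r = c • (1 : Matrix ι ι F)) (hX1 : ∀ c : F, X ≠ c • (1 : Matrix ι ι F))
    (hY : ∃ c : F, Y ^ s = c • (1 : Matrix ι ι F)) (hY1 : ∀ c : F, Y ≠ c • (1 : Matrix ι ι F)) :
    r * s ∈ Set.range (orderOf : Matrix.ProjectiveSpecialLinearGroup (Fin n) F → ℕ) := by
  let e : ι ≃ Fin n := Fintype.equivFinOfCardEq hι
  let φ := Matrix.reindexAlgEquiv F F e
  have hdet : ∀ M : Matrix ι ι F, (φ M).det = M.det := fun M => by
    change (Matrix.reindexAlgEquiv F F e M).det = _
    rw [Matrix.det_reindexAlgEquiv]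
  have key : ∀ (M : Matrix ι ι F) (A : Matrix.SpecialLinearGroup (Fin n) F) (hA : (A : Matrix (Fin n) (Fin n) F) = φ M)
      (t : ℕ) (ht : t.Prime) (c : F), M ^ t = c • (1 : Matrix ι ι F) →
      (∀ c : F, M ≠ c • (1 : Matrix ι ι F)) →
      orderOf (QuotientGroup.mk A : Matrix.ProjectiveSpecialLinearGroup (Fin n) F) = t := by
    intro M A hA t ht c hc hns
    have : Fact t.Prime := ⟨ht⟩
    have hd : M.det = 1 := by rw [← hdet, ← hA, A.2]
    apply orderOf_eq_prime
    · rw [← QuotientGroup.mk_pow]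
      apply (QuotientGroup.eq_one_iff _).mpr
      rw [Matrix.SpecialLinearGroup.mem_center_iff]
      refine ⟨c, ?_, ?_⟩
      · have h1 := congrArg Matrix.det hc
        rw [Matrix.det_pow, hd, one_pow, Matrix.det_smul, det_one, mul_one, hι] at h1
        rw [Fintype.card_fin]; exact h1.symm
      · rw [Matrix.SpecialLinearGroup.coe_pow, hA]
        rw [← map_pow, hc, map_smul, map_one]
        ext i j
        simp [Matrix.scalar_apply, Matrix.diagonal_apply, Matrix.one_apply]
    · intro h
      have h1 := (QuotientGroup.eq_one_iff _).mp h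
      rw [Matrix.SpecialLinearGroup.mem_center_iff] at h1
      obtain ⟨c', -, hc'⟩ := h1
      apply hns c'
      apply φ.injective
      rw [map_smul, map_one]
      rw [hA] at hc'
      rw [← hc']
      ext i j
      simp [Matrix.scalar_apply, Matrix.diagonal_apply, Matrix.one_apply]
  obtain ⟨c, hc⟩ := hX
  obtain ⟨d, hd⟩ := hY
  obtain ⟨A, hA⟩ : ∃ A : Matrix.SpecialLinearGroup (Fin n) F, (A : Matrix (Fin n) (Fin n) F) = φ X := ⟨⟨φ X, (hdet X).trans hXd⟩, rfl⟩
  obtain ⟨B, hB⟩ : ∃ A : Matrix.SpecialLinearGroup (Fin n) F, (A : Matrix (Fin n) (Fin n) F) = φ Y := ⟨⟨φ Y, (hdet Y).trans hYd⟩, rfl⟩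
  have o1 := key X A hA r hr c hc hX1
  have o2 := key Y B hB s hs d hd hY1
  have hAB : A * B = B * A := by
    apply Subtype.ext
    rw [Matrix.SpecialLinearGroup.coe_mul, Matrix.SpecialLinearGroup.coe_mul, hA, hB, ← map_mul, hXY, map_mul]
  refine ⟨QuotientGroup.mk A * QuotientGroup.mk B, ?_⟩
  have hcomm : Commute (QuotientGroup.mk A : Matrix.ProjectiveSpecialLinearGroup (Fin n) F) (QuotientGroup.mk B) := by
    change QuotientGroup.mk (_ * _) = QuotientGroup.mk (_ * _)
    rw [hAB]
  rw [hcomm.orderOf_mul_eq_mul_orderOf_of_coprime (by rw [o1, o2]; exact (Nat.coprime_primes hr hs).mpr hrs), o1, o2]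

/-- Eigenvalues of `h` with `h ^ m` scalar. -/
theorem eig_pow_eq {F : Type*} [Field F] {ι : Type*} [Fintype ι] [DecidableEq ι] {K : Type*} [Field K] [Algebra F K]
    (h : Matrix ι ι F) (m : ℕ) (c : F) (hpow : h ^ m = c • (1 : Matrix ι ι F)) (l : K)
    (hl : (h.charpoly.map (algebraMap F K)).IsRoot l) : l ^ m = algebraMap F K c := by
  have h1 : (h.map (algebraMap F K)).charpoly = h.charpoly.map (algebraMap F K) := Matrix.charpoly_map _ _
  rw [← h1, IsRoot.def, Matrix.eval_charpoly] at hl
  obtain ⟨v, hv0, hv⟩ := Matrix.exists_mulVec_eq_zero_iff.mpr hl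
  have hv2 : (h.map (algebraMap F K)) *ᵥ v = l • v := by
    rw [Matrix.sub_mulVec, sub_eq_zero] at hv
    rw [← hv]
    ext j
    simp [Matrix.scalar_apply, Matrix.mulVec_diagonal]
  have hv3 : ∀ k : ℕ, ((h.map (algebraMap F K)) ^ k) *ᵥ v = l ^ k • v := by
    intro k
    induction k with
    | zero => simp
    | succ k ih => rw [pow_succ, ← Matrix.mulVec_mulVec, hv2, Matrix.mulVec_smul, ih, smul_smul, pow_succ, mul_comm]
  have hpowK : (h.map (algebraMap F K)) ^ m = (algebraMap F K c) • (1 : Matrix ι ι K) := by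
    have : (h.map (algebraMap F K)) ^ m = (h ^ m).map (algebraMap F K) := by
      have := map_pow (algebraMap F K).mapMatrix h m
      exact this.symm
    rw [this, hpow]
    ext i j
    simp only [Matrix.map_apply, Matrix.smul_apply, Matrix.one_apply, smul_eq_mul, map_mul]
    split_ifs <;> simp
  have h4 := hv3 m
  rw [hpowK, Matrix.smul_mulVec, Matrix.one_mulVec] at h4
  have h5 : (l ^ m - algebraMap F K c) • v = 0 := by rw [sub_smul, ← h4, sub_self]
  rcases smul_eq_zero.mp h5 with h | h
  · exact sub_eq_zero.mp h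
  · exact absurd h hv0

/-- The commutant of a nonscalar `2 × 2` matrix. -/
theorem exists_of_comm_two {F : Type*} [Field F] (A u : Matrix (Fin 2) (Fin 2) F) (hu : ∀ c : F, u ≠ c • (1 : Matrix (Fin 2) (Fin 2) F))
    (h : A * u = u * A) : ∃ a b : F, A = a • (1 : Matrix (Fin 2) (Fin 2) F) + b • u := by
  have h00 := congrFun (congrFun h 0) 0
  have h01 := congrFun (congrFun h 0) 1
  have h10 := congrFun (congrFun h 1) 0
  have h11 := congrFun (congrFun h 1) 1
  simp only [Matrix.mul_apply, Fin.sum_univ_two] at h00 h01 h10 h11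
  by_cases c1 : u 0 1 = 0
  · by_cases c2 : u 1 0 = 0
    · have c3 : u 0 0 - u 1 1 ≠ 0 := by
        intro h3
        apply hu (u 0 0)
        ext i j
        fin_cases i <;> fin_cases j <;> simp [c1, c2]
        exact (sub_eq_zero.mp h3).symm
      have e1 : A 0 1 = 0 := by
        have : (u 0 0 - u 1 1) * A 0 1 = 0 := by rw [c1] at h01; linear_combination -h01
        exact (mul_eq_zero.mp this).resolve_left c3
      have e2 : A 1 0 = 0 := by
        have : (u 0 0 - u 1 1) * A 1 0 = 0 := by rw [c2] at h10; linear_combination h10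
        exact (mul_eq_zero.mp this).resolve_left c3
      refine ⟨A 0 0 - (A 0 0 - A 1 1) / (u 0 0 - u 1 1) * u 0 0, (A 0 0 - A 1 1) / (u 0 0 - u 1 1), ?_⟩
      ext i j
      fin_cases i <;> fin_cases j <;> simp [c1, c2, e1, e2]
      field_simp
      ring
    · refine ⟨A 0 0 - A 1 0 / u 1 0 * u 0 0, A 1 0 / u 1 0, ?_⟩
      ext i j
      fin_cases i <;> fin_cases j <;> simp
      · field_simp; linear_combination h00
      · field_simp
      · field_simp; linear_combination h10
  · refine ⟨A 0 0 - A 0 1 / u 0 1 * u 0 0, A 0 1 / u 0 1, ?_⟩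
    ext i j
    fin_cases i <;> fin_cases j <;> simp
    · field_simp
    · field_simp; linear_combination -h00
    · field_simp; linear_combination -h01

end Cfsg.Agent.H41
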