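import Mathlib
import Cfsg.Agent.H41.SemisCount

/-! Symplectic matrices with characteristic polynomial `X ^ m k(X + 1/X)`. -/

set_option autoImplicit false
set_option linter.unusedSimpArgs false

open Matrix Polynomial Module

namespace Cfsg.Agent.H41

theorem exists_symm_gram {F : Type*} [Field F] (m : ℕ) (k : F[X]) (hk : k.Monic) (hdeg : k.natDegree = m) :
    ∃ D Λ : Matrix (Fin m) (Fin m) F, D.charpoly = k ∧ Λᵀ = Λ ∧ Λ.det ≠ 0 ∧ Λ * Dᵀ = D * Λ := by
  classical
  rcases Nat.eq_zero_or_pos m with hm0 | hm0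
  · subst hm0
    refine ⟨0, 1, ?_, by simp, by simp, Subsingleton.elim _ _⟩
    rw [Matrix.charpoly, Matrix.det_isEmpty, hk.natDegree_eq_zero.mp hdeg]
  let pb := AdjoinRoot.powerBasis hk.ne_zero
  have hd : pb.dim = m := (AdjoinRoot.powerBasis_dim _).trans hdeg
  let b : Basis (Fin m) F (AdjoinRoot k) := pb.basis.reindex (finCongr hd)
  obtain ⟨M, hM⟩ : ∃ M : Matrix (Fin m) (Fin m) F, M = Algebra.leftMulMatrix b pb.gen := ⟨_, rfl⟩
  have h1 : (Algebra.leftMulMatrix pb.basis pb.gen).charpoly = minpoly F pb.gen := charpoly_leftMulMatrix pb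
  have h2 : minpoly F pb.gen = k := by
    change minpoly F (AdjoinRoot.powerBasis hk.ne_zero).gen = k
    rw [AdjoinRoot.minpoly_powerBasis_gen_of_monic hk]
  have hMc : M.charpoly = k := by
    have h3 : M = Matrix.reindex (finCongr hd) (finCongr hd) (Algebra.leftMulMatrix pb.basis pb.gen) := by
      rw [hM]
      ext i j
      simp [b, Algebra.leftMulMatrix_eq_repr_mul]
    rw [h3, Matrix.charpoly_reindex, h1, h2]
  let lam : AdjoinRoot k →ₗ[F] F := (lcoeff F (m - 1)) ∘ₗ (AdjoinRoot.modByMonicHom hk)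
  have hmul : ∀ x : AdjoinRoot k, ∀ j, pb.gen * b j = ∑ l, M l j • b l := by
    intro _ j
    rw [hM]
    conv_lhs => rw [← b.sum_repr (pb.gen * b j)]
    simp only [Algebra.leftMulMatrix_eq_repr_mul]
  obtain ⟨G, hG⟩ : ∃ G : Matrix (Fin m) (Fin m) F, G = Matrix.of fun i j => lam (b i * b j) := ⟨_, rfl⟩
  have hGs : Gᵀ = G := by
    ext i j
    rw [hG, transpose_apply, of_apply, of_apply, mul_comm]
  have hMG : ∀ i j, (Mᵀ * G) i j = lam (pb.gen * b i * b j) := by
    intro i j
    rw [hmul 0 i, Finset.sum_mul, map_sum, Matrix.mul_apply]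
    apply Finset.sum_congr rfl
    intro l _
    rw [hG, transpose_apply, of_apply, smul_mul_assoc, map_smul, smul_eq_mul]
  have hMG2 : (Mᵀ * G)ᵀ = Mᵀ * G := by
    ext i j
    rw [transpose_apply, hMG, hMG]
    congr 1; ring
  refine ⟨Mᵀ, G, ?_, hGs, ?_, ?_⟩
  · rw [Matrix.charpoly_transpose, hMc]
  · intro hdet
    obtain ⟨v, hv0, hv⟩ := Matrix.exists_mulVec_eq_zero_iff.mpr hdet
    obtain ⟨x, hx⟩ : ∃ x : AdjoinRoot k, x = ∑ j, v j • b j := ⟨_, rfl⟩
    have hx0 : x ≠ 0 := by
      intro h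
      apply hv0
      funext j
      rw [hx] at h
      exact (Fintype.linearIndependent_iff.mp b.linearIndependent v h) j
    have h3 : ∀ i, lam (b i * x) = 0 := by
      intro i
      have h4 := congrFun hv i
      rw [hx, Finset.mul_sum, map_sum]
      rw [Matrix.mulVec, dotProduct, Pi.zero_apply] at h4
      rw [← h4]
      apply Finset.sum_congr rfl
      intro j _
      rw [hG, of_apply, mul_smul_comm, map_smul, smul_eq_mul, mul_comm]
    have h4 : ∀ y, lam (y * x) = 0 := by
      intro y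
      rw [← b.sum_repr y, Finset.sum_mul, map_sum]
      apply Finset.sum_eq_zero
      intro i _
      rw [smul_mul_assoc, map_smul, h3, smul_zero]
    obtain ⟨r, hr⟩ : ∃ r, r = AdjoinRoot.modByMonicHom hk x := ⟨_, rfl⟩
    have hxr : AdjoinRoot.mk k r = x := by rw [hr]; exact AdjoinRoot.mk_leftInverse hk x
    have hr0 : r ≠ 0 := by
      rintro rfl
      rw [map_zero] at hxr
      exact hx0 hxr.symm
    have hrd : r.natDegree < m := by
      obtain ⟨g, hg⟩ := AdjoinRoot.mk_surjective x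
      rw [← hg, AdjoinRoot.modByMonicHom_mk] at hr
      rw [← hdeg, hr]
      apply natDegree_modByMonic_lt _ hk
      rintro rfl
      rw [natDegree_one] at hdeg
      omega
    have h5 := h4 (AdjoinRoot.mk k (X ^ (m - 1 - r.natDegree)))
    rw [← hxr, ← map_mul] at h5
    change (AdjoinRoot.modByMonicHom hk (AdjoinRoot.mk k (X ^ (m - 1 - r.natDegree) * r))).coeff (m - 1) = 0 at h5
    rw [AdjoinRoot.modByMonicHom_mk] at h5
    have h6 : (X ^ (m - 1 - r.natDegree) * r).degree < k.degree := by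
      rw [degree_mul, degree_X_pow, degree_eq_natDegree hr0, degree_eq_natDegree hk.ne_zero, hdeg]
      exact_mod_cast (by omega : m - 1 - r.natDegree + r.natDegree < m)
    rw [(modByMonic_eq_self_iff hk).mpr h6, mul_comm] at h5
    have h7 : m - 1 = r.natDegree + (m - 1 - r.natDegree) := by omega
    nth_rewrite 2 [h7] at h5
    rw [coeff_mul_X_pow, coeff_natDegree] at h5
    exact hr0 (leadingCoeff_eq_zero.mp h5)
  · rw [transpose_transpose]
    rw [← hMG2, transpose_mul, transpose_transpose, hGs]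

/-- the symplectic matrix attached to `D` -/
theorem mem_sp_of_symm {F : Type*} [Field F] (m : ℕ) (D L : Matrix (Fin m) (Fin m) F) (hL : Lᵀ = L) (hdet : L.det ≠ 0) (hDL : L * Dᵀ = D * L) :
    fromBlocks 0 (-L⁻¹) L D ∈ Matrix.symplecticGroup (Fin m) F := by
  have hu : IsUnit L.det := hdet.isUnit
  have h1 : (L⁻¹)ᵀ = L⁻¹ := by rw [transpose_nonsing_inv, hL]
  rw [SymplecticGroup.mem_iff, Matrix.J, fromBlocks_transpose, fromBlocks_multiply, fromBlocks_multiply]
  simp only [zero_mul, mul_zero, transpose_zero, transpose_neg, h1, hL, neg_mul, mul_neg, mul_one, zero_add, add_zero, neg_neg, neg_zero,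
    Matrix.nonsing_inv_mul _ hu, Matrix.mul_nonsing_inv _ hu]
  congr 1
  rw [hDL]; simp

theorem eval_charpoly_sp {F : Type*} [Field F] {K : Type*} [Field K] [Algebra F K] (m : ℕ) (D L : Matrix (Fin m) (Fin m) F) (hdet : L.det ≠ 0)
    (x : K) (hx : x ≠ 0) :
    aeval x (fromBlocks 0 (-L⁻¹) L D).charpoly = x ^ m * aeval (x + x⁻¹) D.charpoly := by
  have hu : IsUnit L.det := hdet.isUnit
  have e1 : ∀ (y : K), aeval y D.charpoly = (scalar (Fin m) y - D.map (algebraMap F K)).det := by
    intro y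
    rw [← eval_map_algebraMap, ← Matrix.charpoly_map, Matrix.eval_charpoly]
  have e2 : aeval x (fromBlocks 0 (-L⁻¹) L D).charpoly = (scalar (Fin m ⊕ Fin m) x - (fromBlocks 0 (-L⁻¹) L D).map (algebraMap F K)).det := by
    rw [← eval_map_algebraMap, ← Matrix.charpoly_map, Matrix.eval_charpoly]
  rw [e1, e2]
  have h1 : (scalar (Fin m ⊕ Fin m) x - (fromBlocks 0 (-L⁻¹) L D).map (algebraMap F K)) =
      fromBlocks (scalar (Fin m) x) ((L⁻¹).map (algebraMap F K)) (-(L.map (algebraMap F K))) (scalar (Fin m) x - D.map (algebraMap F K)) := by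
    ext i j
    rcases i with i | i <;> rcases j with j | j <;> simp [Matrix.fromBlocks, Matrix.scalar_apply, Matrix.diagonal_apply]
  have hxu : IsUnit (scalar (Fin m) x).det := by
    rw [Matrix.scalar_apply, Matrix.det_diagonal, Finset.prod_const]
    exact (pow_ne_zero _ hx).isUnit
  have hinv : Invertible (scalar (Fin m) x) := Matrix.invertibleOfIsUnitDet _ hxu
  have hsx : ⅟(scalar (Fin m) x) = scalar (Fin m) x⁻¹ := by
    apply invOf_eq_right_inv
    rw [← map_mul, mul_inv_cancel₀ hx, map_one]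
  rw [h1, Matrix.det_fromBlocks₁₁, hsx]
  have h2 : (scalar (Fin m) x).det = x ^ m := by
    rw [Matrix.scalar_apply, Matrix.det_diagonal, Finset.prod_const, Finset.card_univ, Fintype.card_fin]
  rw [h2]
  congr 2
  have h3 : L.map (algebraMap F K) * (L⁻¹).map (algebraMap F K) = 1 := by
    rw [← Matrix.map_mul, Matrix.mul_nonsing_inv _ hu, Matrix.map_one _ (map_zero _) (map_one _)]
  have h4 : -(L.map (algebraMap F K)) * scalar (Fin m) x⁻¹ * (L⁻¹).map (algebraMap F K) = - scalar (Fin m) x⁻¹ := by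
    have h5 : L.map (algebraMap F K) * scalar (Fin m) x⁻¹ = scalar (Fin m) x⁻¹ * L.map (algebraMap F K) :=
      ((Matrix.scalar_commute x⁻¹ (fun r' => mul_comm _ _) (L.map (algebraMap F K))).eq).symm
    rw [neg_mul, h5, neg_mul, mul_assoc, h3, mul_one]
  rw [h4, map_add]
  abel

end Cfsg.Agent.H41
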