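import Cfsg.Agent.Suzuki.FieldAut
import Cfsg.Agent.H41.PGraph
import Cfsg.Agent.S2238
import Cfsg.Agent.S0324

set_option autoImplicit false
set_option linter.unusedSectionVars false
set_option linter.unusedVariables false

/-! The extension of the Suzuki group over the field with 8 elements by its field automorphism, acting on matrices. -/

namespace Cfsg.Agent.H41.SzThree

open Matrix Cfsg.Agent.Suz Cfsg.Agent.H41

section gen
variable (F : Type*) [Field F] [Fintype F] [CharP F 2] (hF : Fintype.card F = 2 ^ (2 * 1 + 1))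

/-- the squaring automorphism -/
noncomputable def fr : F ≃+* F := RingEquiv.ofBijective (frobenius F 2) ⟨(frobenius F 2).injective, (Finite.injective_iff_surjective).1 (frobenius F 2).injective⟩

theorem fr_apply (x : F) : fr F x = x ^ 2 := rfl

/-- the group of field automorphisms -/
noncomputable abbrev CC : Subgroup (F ≃+* F) := Subgroup.zpowers (fr F)

variable {F}

theorem sig_th (σ : F ≃+* F) (a : F) : (σ : F →+* F) (th F 1 a) = th F 1 ((σ : F →+* F) a) := by
  rw [th_apply, th_apply, map_pow]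

/-- field endomorphism of `Sz` -/
noncomputable def fh (hF : Fintype.card F = 2 ^ (2 * 1 + 1)) (σ : F ≃+* F) : Cfsg.Sz F 1 →* Cfsg.Sz F 1 :=
  fieldHom hF le_rfl hF (σ : F →+* F) (sig_th σ)

theorem fh_val (σ : F ≃+* F) (g : Cfsg.Sz F 1) : (fh hF σ g).1 = SpecialLinearGroup.map (σ : F →+* F) g.1 := rfl

/-- the underlying matrix -/
def mt (s : Cfsg.Sz F 1) : Matrix (Fin 4) (Fin 4) F := s.1.1

theorem mt_mul (s t : Cfsg.Sz F 1) : mt (s * t) = mt s * mt t := rfl

theorem mt_one : mt (1 : Cfsg.Sz F 1) = 1 := rfl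

theorem fh_mat (σ : F ≃+* F) (g : Cfsg.Sz F 1) : mt (fh hF σ g) = (mt g).map σ := rfl

theorem ext2 {g h : Cfsg.Sz F 1} (H : mt g = mt h) : g = h := Subtype.ext (Subtype.ext H)

theorem fh_mul (σ ρ : F ≃+* F) (g : Cfsg.Sz F 1) : fh hF (σ * ρ) g = fh hF σ (fh hF ρ g) := by
  apply ext2
  rw [fh_mat, fh_mat, fh_mat, Matrix.map_map]
  rfl

theorem fh_one (g : Cfsg.Sz F 1) : fh hF 1 g = g := by
  apply ext2
  rw [fh_mat]
  ext i j
  rfl

/-- the automorphism -/
noncomputable def fe : (F ≃+* F) →* MulAut (Cfsg.Sz F 1) where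
  toFun σ :=
    { toFun := fh hF σ
      invFun := fh hF σ⁻¹
      left_inv := fun g => by rw [← fh_mul, inv_mul_cancel, fh_one]
      right_inv := fun g => by rw [← fh_mul, mul_inv_cancel, fh_one]
      map_mul' := fun a b => map_mul _ a b }
  map_one' := by
    ext1 g
    exact fh_one hF g
  map_mul' σ ρ := by
    ext1 g
    exact fh_mul hF σ ρ g

theorem fe_apply (σ : F ≃+* F) (g : Cfsg.Sz F 1) : fe hF σ g = fh hF σ g := rfl

/-- the group -/
abbrev GG : Type _ := (Cfsg.Sz F 1) ⋊[(fe hF).comp (CC F).subtype] (CC F)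

/-- squares of entries -/
noncomputable def tau (s : Cfsg.Sz F 1) : Matrix (Fin 4) (Fin 4) F := (mt s⁻¹).map (fr F)

theorem map_mul4 (σ : F ≃+* F) (A B : Matrix (Fin 4) (Fin 4) F) : (A * B).map σ = A.map σ * B.map σ :=
  Matrix.map_mul (f := (σ : F →+* F))

theorem tau_mul (s t : Cfsg.Sz F 1) : tau (s * t) = tau t * tau s := by
  unfold tau
  rw [_root_.mul_inv_rev, mt_mul, map_mul4]

theorem tau_one : tau (1 : Cfsg.Sz F 1) = 1 := by
  unfold tau
  rw [inv_one]
  exact Matrix.map_one (fr F) (map_zero _) (map_one _)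

theorem fr_comm (σ : CC F) (x : F) : (σ : F ≃+* F) (fr F x) = fr F ((σ : F ≃+* F) x) := by
  rw [fr_apply, fr_apply, map_pow]

theorem tau_fh (σ : CC F) (s : Cfsg.Sz F 1) : (tau s).map (σ : F ≃+* F) = tau (fh hF σ s) := by
  unfold tau
  rw [← map_inv, fh_mat, Matrix.map_map, Matrix.map_map]
  congr 1
  funext x
  exact fr_comm σ x

/-- the action on matrices -/
noncomputable def aM (g : GG hF) (M : Matrix (Fin 4) (Fin 4) F) : Matrix (Fin 4) (Fin 4) F :=
  mt g.left * M.map (g.right : F ≃+* F) * tau g.left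

theorem aM_one (M : Matrix (Fin 4) (Fin 4) F) : aM hF 1 M = M := by
  unfold aM
  change mt 1 * M.map ((1 : CC F) : F ≃+* F) * tau 1 = M
  rw [tau_one, mt_one, mul_one, one_mul]
  rfl

theorem aM_mul (g h : GG hF) (M : Matrix (Fin 4) (Fin 4) F) : aM hF (g * h) M = aM hF g (aM hF h M) := by
  have h1 : (g * h).left = g.left * fh hF g.right h.left := rfl
  have h2 : ((g * h).right : F ≃+* F) = (g.right : F ≃+* F) * (h.right : F ≃+* F) := rfl
  unfold aM
  rw [map_mul4, map_mul4, tau_fh hF, ← fh_mat hF, h1, h2, tau_mul, mt_mul, Matrix.map_map]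
  simp only [Matrix.mul_assoc]
  rfl

theorem aM_zero (g : GG hF) : aM hF g 0 = 0 := by
  unfold aM
  rw [Matrix.map_zero _ (map_zero _), mul_zero, zero_mul]

theorem aM_add (g : GG hF) (M N : Matrix (Fin 4) (Fin 4) F) : aM hF g (M + N) = aM hF g M + aM hF g N := by
  unfold aM
  rw [Matrix.map_add _ (map_add _), mul_add, add_mul]

/-- the module -/
def VV (F : Type*) : Type _ := Matrix (Fin 4) (Fin 4) F

noncomputable instance : AddCommGroup (VV F) := inferInstanceAs (AddCommGroup (Matrix (Fin 4) (Fin 4) F))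
instance : Finite (VV F) := inferInstanceAs (Finite (Matrix (Fin 4) (Fin 4) F))
instance : Nontrivial (VV F) := inferInstanceAs (Nontrivial (Matrix (Fin 4) (Fin 4) F))

noncomputable instance : DistribMulAction (GG hF) (VV F) where
  smul g M := aM hF g M
  one_smul M := aM_one hF M
  mul_smul g h M := aM_mul hF g h M
  smul_zero g := aM_zero hF g
  smul_add g M N := aM_add hF g M N

theorem smul_eq (g : GG hF) (M : VV F) : g • M = aM hF g M := rfl

/-! ### Orders -/

include hF in
theorem pow_eight (x : F) : x ^ 8 = x := by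
  have := FiniteField.pow_card x
  rwa [hF] at this

include hF in
theorem fr_order : orderOf (fr F) = 3 := by
  apply orderOf_eq_prime
  · ext x
    change ((x ^ 2) ^ 2) ^ 2 = x
    rw [← pow_mul, ← pow_mul]
    exact pow_eight hF x
  · intro h
    classical
    have h1 : ∀ x : F, x ^ 2 = x := fun x => RingEquiv.congr_fun h x
    have h2 : Fintype.card F ≤ 2 := by
      have h3 : (Finset.univ : Finset F) ⊆ {0, 1} := by
        intro x _
        have h4 : x * (x - 1) = 0 := by linear_combination h1 x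
        rcases mul_eq_zero.1 h4 with h5 | h5
        · simp [h5]
        · simp [sub_eq_zero.1 h5]
      calc Fintype.card F = (Finset.univ : Finset F).card := rfl
        _ ≤ ({0, 1} : Finset F).card := Finset.card_le_card h3
        _ ≤ 2 := Finset.card_le_two
    rw [hF] at h2
    norm_num at h2

include hF in
theorem card_CC : Nat.card (CC F) = 3 := by
  rw [Nat.card_zpowers, fr_order hF]

include hF in
theorem card_Sz8 : Nat.card (Cfsg.Sz F 1) = 29120 := by
  rw [Cfsg.Agent.S0324.result le_rfl hF]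
  norm_num

instance : Finite (F ≃+* F) := DFunLike.finite _

instance : Finite (GG hF) := by
  have : Finite ((Cfsg.Sz F 1) × (CC F)) := inferInstance
  exact Finite.of_equiv _ SemidirectProduct.equivProd.symm

theorem card_GG : Nat.card (GG hF) = 87360 := by
  rw [SemidirectProduct.card, card_Sz8 hF, card_CC hF]

include hF in
/-- orders of elements of the Suzuki group -/
theorem order_Sz (s : Cfsg.Sz F 1) {p q : ℕ} (hp : p.Prime) (hq : q.Prime) (hpq : p ≠ q) : orderOf s ≠ p * q := by
  intro h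
  have hs : s ≠ 1 := by
    intro h1
    rw [h1, orderOf_one] at h
    have := hp.two_le
    have := hq.two_le
    nlinarith
  obtain ⟨U, ⟨hU, hsU⟩, -⟩ := Cfsg.Agent.S2238.result le_rfl hF s hs
  have h1 : orderOf s ∣ Nat.card U := by
    have := orderOf_dvd_natCard (⟨s, hsU⟩ : U)
    rwa [Subgroup.orderOf_mk] at this
  have hd1 : p ∣ Nat.card U := (dvd_mul_right p q).trans (h ▸ h1)
  have hd2 : q ∣ Nat.card U := (dvd_mul_left q p).trans (h ▸ h1)
  rcases hU with ⟨P, rfl⟩ | ⟨-, hU⟩
  · obtain ⟨n, hn⟩ := IsPGroup.iff_card.1 P.isPGroup'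
    have e1 : Nat.card (P : Subgroup (Cfsg.Sz F 1)) = 2 ^ n := hn
    rw [e1] at hd1 hd2
    have h3 := (Nat.prime_dvd_prime_iff_eq hp Nat.prime_two).1 (hp.dvd_of_dvd_pow hd1)
    have h4 := (Nat.prime_dvd_prime_iff_eq hq Nat.prime_two).1 (hq.dvd_of_dvd_pow hd2)
    exact hpq (h3.trans h4.symm)
  · have hU' : Nat.card U = 7 ∨ Nat.card U = 13 ∨ Nat.card U = 5 := by
      simpa using hU
    rcases hU' with h5 | h5 | h5 <;> rw [h5] at hd1 hd2
    · exact hpq (((Nat.prime_dvd_prime_iff_eq hp (by norm_num)).1 hd1).trans ((Nat.prime_dvd_prime_iff_eq hq (by norm_num)).1 hd2).symm)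
    · exact hpq (((Nat.prime_dvd_prime_iff_eq hp (by norm_num)).1 hd1).trans ((Nat.prime_dvd_prime_iff_eq hq (by norm_num)).1 hd2).symm)
    · exact hpq (((Nat.prime_dvd_prime_iff_eq hp (by norm_num)).1 hd1).trans ((Nat.prime_dvd_prime_iff_eq hq (by norm_num)).1 hd2).symm)

/-- the right component -/
theorem right_pow (g : GG hF) (n : ℕ) : (g ^ n).right = g.right ^ n :=
  map_pow (SemidirectProduct.rightHom : GG hF →* CC F) g n

theorem right_order (g : GG hF) : orderOf g.right ∣ orderOf g ∧ orderOf g.right ∣ 3 :=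
  ⟨orderOf_map_dvd (SemidirectProduct.rightHom : GG hF →* CC F) g, card_CC hF ▸ orderOf_dvd_natCard g.right⟩

theorem right_eq_one (g : GG hF) (h : ¬ 3 ∣ orderOf g) : g.right = 1 := by
  obtain ⟨h1, h2⟩ := right_order hF g
  rcases (Nat.dvd_prime Nat.prime_three).1 h2 with h3 | h3
  · exact orderOf_eq_one_iff.1 h3
  · rw [h3] at h1
    exact absurd h1 h

theorem eq_inl (g : GG hF) (h : g.right = 1) : g = SemidirectProduct.inl g.left := by
  apply SemidirectProduct.ext
  · simp
  · simp [h]

theorem order_left (g : GG hF) (h : g.right = 1) : orderOf g.left = orderOf g := by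
  conv_rhs => rw [eq_inl hF g h]
  rw [orderOf_injective _ SemidirectProduct.inl_injective]

theorem order_not (g : GG hF) {p q : ℕ} (hp : p.Prime) (hq : q.Prime) (hpq : p ≠ q) (hp3 : p ≠ 3) (hq3 : q ≠ 3) : orderOf g ≠ p * q := by
  intro h
  have h1 : g.right = 1 := by
    apply right_eq_one
    rw [h, Nat.prime_three.dvd_mul]
    rintro (h2 | h2)
    · exact hp3 ((Nat.prime_dvd_prime_iff_eq Nat.prime_three hp).1 h2).symm
    · exact hq3 ((Nat.prime_dvd_prime_iff_eq Nat.prime_three hq).1 h2).symm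
  exact order_Sz hF g.left hp hq hpq ((order_left hF g h1).trans h)

/-- the field automorphism in the group -/
noncomputable def ss : GG hF := SemidirectProduct.inr ⟨fr F, Subgroup.mem_zpowers _⟩

theorem ss_order : orderOf (ss hF) = 3 := by
  unfold ss
  rw [orderOf_injective _ SemidirectProduct.inr_injective, Subgroup.orderOf_mk, fr_order hF]

open Pointwise in
/-- elements of order 3 are conjugate to powers of `ss` -/
theorem conj_ss (x : GG hF) (hx : orderOf x = 3) : ∃ h : GG hF, Commute (h * x * h⁻¹) (ss hF) ∧ ss hF ∈ Subgroup.zpowers (h * x * h⁻¹) := by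
  have : Fact (Nat.Prime 3) := ⟨Nat.prime_three⟩
  have hc : ∀ y : GG hF, orderOf y = 3 → ∃ P : Sylow 3 (GG hF), (P : Subgroup (GG hF)) = Subgroup.zpowers y := by
    intro y hy
    refine ⟨Sylow.ofCard (Subgroup.zpowers y) ?_, rfl⟩
    rw [Nat.card_zpowers, hy, card_GG]
    have : Nat.factorization 87360 3 = 1 := by
      rw [Nat.factorization_def _ Nat.prime_three]
      have : (87360 : ℕ) = 3 * 29120 := by norm_num
      rw [this, padicValNat.mul (by norm_num) (by norm_num), padicValNat_self]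
      rw [padicValNat.eq_zero_of_not_dvd (by norm_num)]
    rw [this, pow_one]
  obtain ⟨P, hP⟩ := hc x hx
  obtain ⟨Q, hQ⟩ := hc (ss hF) (ss_order hF)
  obtain ⟨h, hh⟩ := MulAction.exists_smul_eq (GG hF) P Q
  refine ⟨h, ?_, ?_⟩
  all_goals
    have h1 : (h • P : Sylow 3 (GG hF)).toSubgroup = MulAut.conj h • (P : Subgroup (GG hF)) := rfl
    have h2 : Subgroup.zpowers (ss hF) = Subgroup.zpowers (h * x * h⁻¹) := by
      rw [← hQ, ← hh, h1, hP]
      have h3 : MulAut.conj h • Subgroup.zpowers x = (Subgroup.zpowers x).map (MulAut.conj h).toMonoidHom := rfl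
      rw [h3, MonoidHom.map_zpowers]
      rfl
  · obtain ⟨n, hn⟩ := Subgroup.mem_zpowers_iff.1 (h2.symm ▸ Subgroup.mem_zpowers (h * x * h⁻¹) : h * x * h⁻¹ ∈ Subgroup.zpowers (ss hF))
    rw [← hn]
    exact ((Commute.refl _).zpow_left n)
  · rw [← h2]; exact Subgroup.mem_zpowers _

end gen

end Cfsg.Agent.H41.SzThree
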