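import Cfsg.Agent.H41.SzThree
import Cfsg.Agent.H41.OrdArg

set_option autoImplicit false
set_option linter.unusedSectionVars false
set_option linter.unusedVariables false

/-! The prime graph of the extension of the Suzuki group by its field automorphism, and fixed vectors. -/

namespace Cfsg.Agent.H41.SzThree

open Matrix Cfsg.Agent.Suz Cfsg.Agent.H41

section gen
variable {F : Type*} [Field F] [Fintype F] [CharP F 2] (hF : Fintype.card F = 2 ^ (2 * 1 + 1))

/-- the prime field embedding -/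
noncomputable def cc : ZMod 2 →+* F := ZMod.castHom (dvd_refl 2) F

theorem mt_fix {y : Cfsg.Sz F 1} (h : fh hF (fr F) y = y) (i j : Fin 4) : mt y i j = 0 ∨ mt y i j = 1 := by
  have h1 : (mt y).map (fr F) = mt y := by rw [← fh_mat hF, h]
  have h2 := congrFun (congrFun h1 i) j
  rw [Matrix.map_apply, fr_apply] at h2
  have h4 : mt y i j * (mt y i j - 1) = 0 := by linear_combination h2
  rcases mul_eq_zero.1 h4 with h5 | h5
  · exact Or.inl h5
  · exact Or.inr (sub_eq_zero.1 h5)

theorem mt_pow (y : Cfsg.Sz F 1) (n : ℕ) : mt (y ^ n) = mt y ^ n := by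
  induction n with
  | zero => rw [pow_zero, pow_zero]; rfl
  | succ n ih => rw [pow_succ, pow_succ, mt_mul, ih]

theorem no13 (y : Cfsg.Sz F 1) (h : fh hF (fr F) y = y) : orderOf y ≠ 13 := by
  classical
  intro hy
  obtain ⟨Y, hY⟩ : ∃ Y : Matrix (Fin 4) (Fin 4) (ZMod 2), (cc (F := F)).mapMatrix Y = mt y := by
    refine ⟨fun i j => if mt y i j = 0 then 0 else 1, ?_⟩
    ext i j
    change cc (if mt y i j = 0 then 0 else 1) = mt y i j
    split_ifs with h1
    · rw [map_zero, h1]
    · rw [map_one]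
      rcases mt_fix hF h i j with h2 | h2
      · exact absurd h2 h1
      · exact h2.symm
  have hinj : Function.Injective ((cc (F := F)).mapMatrix (m := Fin 4)) := by
    intro A B hAB
    ext i j
    exact (cc (F := F)).injective (congrFun (congrFun hAB i) j)
  have h13 : Y ^ 13 = 1 := by
    apply hinj
    rw [map_pow, map_one, hY, ← mt_pow, ← hy, pow_orderOf_eq_one]
    rfl
  have h1 : Y ≠ 1 := by
    intro h2
    rw [h2, map_one] at hY
    have h3 : y = 1 := ext2 hY.symm
    rw [h3, orderOf_one] at hy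
    norm_num at hy
  let u : (Matrix (Fin 4) (Fin 4) (ZMod 2))ˣ := ⟨Y, Y ^ 12, by rw [← pow_succ', h13], by rw [← pow_succ, h13]⟩
  have : Fact (Nat.Prime 13) := ⟨by norm_num⟩
  have hu : orderOf u = 13 := by
    apply orderOf_eq_prime
    · apply Units.ext; exact h13
    · intro h2; exact h1 (congrArg Units.val h2)
  have h2 : orderOf u ∣ Nat.card (GL (Fin 4) (ZMod 2)) := orderOf_dvd_natCard u
  rw [hu, Matrix.card_GL_field, ZMod.card] at h2
  rw [Fin.prod_univ_four] at h2
  norm_num at h2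

/-- the eigenvalue argument -/
theorem no7 (y : Cfsg.Sz F 1) (h : fh hF (fr F) y = y) : orderOf y ≠ 7 := by
  intro hy
  have : Fact (Nat.Prime 7) := ⟨by norm_num⟩
  have hcard := card_Sz8 hF
  have hfac : Nat.factorization 29120 7 = 1 := by
    rw [Nat.factorization_def _ (by norm_num)]
    have : (29120 : ℕ) = 7 * 4160 := by norm_num
    rw [this, padicValNat.mul (by norm_num) (by norm_num), padicValNat_self]
    rw [padicValNat.eq_zero_of_not_dvd (by norm_num)]
  let P : Sylow 7 (Cfsg.Sz F 1) := Sylow.ofCard (Subgroup.zpowers y) (by rw [Nat.card_zpowers, hy, hcard, hfac, pow_one])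
  let Q : Sylow 7 (Cfsg.Sz F 1) := Sylow.ofCard (HH hF) (by rw [card_HH hF, hcard, hfac]; norm_num)
  obtain ⟨g, hg⟩ := MulAction.exists_smul_eq (Cfsg.Sz F 1) P Q
  have h1 : g * y * g⁻¹ ∈ HH hF := by
    have h2 : g * y * g⁻¹ ∈ ((g • P : Sylow 7 (Cfsg.Sz F 1)) : Subgroup (Cfsg.Sz F 1)) :=
      Subgroup.smul_mem_pointwise_smul y (MulAut.conj g) _ (Subgroup.mem_zpowers y)
    rw [hg] at h2
    exact h2
  obtain ⟨μ, hμ⟩ := (mem_HH hF).1 h1
  have hμ1 : μ ≠ 1 := by
    rintro rfl
    rw [hS_one, mul_inv_eq_one] at hμ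
    have h3 : y = 1 := by
      have : g * y = g * 1 := by rw [hμ, mul_one]
      exact mul_left_cancel this
    rw [h3, orderOf_one] at hy
    norm_num at hy
  -- traces
  have ht : (mt y).trace = (mt (hS hF μ)).trace := by
    rw [← hμ, mt_mul, Matrix.trace_mul_comm, ← mt_mul, inv_mul_cancel_left]
  have ht2 : (mt y).trace ^ 2 = (mt y).trace := by
    have h3 := congrArg Matrix.trace (congrArg mt h)
    rw [fh_mat] at h3
    have h4 : ((mt y).map (fr F)).trace = (mt y).trace ^ 2 := by
      rw [← fr_apply]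
      exact (AddMonoidHom.map_trace ((fr F : F →+* F) : F →+ F) (mt y)).symm
    rw [← h4, h3]
  rw [ht] at ht2
  have hμ0 : (μ : F) ≠ 0 := μ.ne_zero
  have h8 := pow_eight hF (μ : F)
  have hth : th F 1 (μ : F) = (μ : F) ^ 4 := by rw [th_apply]; norm_num
  have h7 : (μ : F) ^ 7 = 1 := by
    have : (μ : F) * (μ : F) ^ 7 = (μ : F) * 1 := by rw [mul_one]; linear_combination h8
    exact mul_left_cancel₀ hμ0 this
  have hi : (μ : F)⁻¹ = (μ : F) ^ 6 := by
    rw [inv_eq_iff_eq_inv, eq_comm]
    apply inv_eq_of_mul_eq_one_left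
    linear_combination h7
  have htr : (mt (hS hF μ)).trace = (μ : F) ^ 5 + μ + (μ : F) ^ 6 + (μ : F) ^ 2 := by
    have h3 : mt (hS hF μ) = Hm (th F 1) μ := rfl
    rw [h3, Matrix.trace, Fin.sum_univ_four]
    simp only [Matrix.diag_apply]
    simp only [Hm, Matrix.of_apply, Matrix.cons_val', Matrix.cons_val_zero, Matrix.cons_val_one, Matrix.cons_val_fin_one, Matrix.cons_val]
    rw [hth, mul_inv, hi]
    have h4 : ((μ : F) ^ 4)⁻¹ = (μ : F) ^ 3 := by
      apply inv_eq_of_mul_eq_one_left
      linear_combination h7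
    rw [h4]
    have h5 : (μ : F) ^ 9 = (μ : F) ^ 2 := by linear_combination (μ : F) ^ 2 * h7
    linear_combination h5
  rw [htr] at ht2
  have h2 : (2 : F) = 0 := CharP.cast_eq_zero F 2
  obtain ⟨x, hx⟩ : ∃ x : F, x = μ := ⟨_, rfl⟩
  rw [← hx] at ht2 h7 hμ0
  have h10 : x * (x + 1) ^ 3 * (x ^ 2 + x + 1) = 0 := by
    grind
  have h11 : x ^ 2 + x + 1 ≠ 0 := by
    intro h12
    have h13 : x ^ 3 = 1 := by linear_combination (x - 1) * h12
    have h14 : x = 1 := by
      calc x = x ^ 7 - x * ((x ^ 3) ^ 2 - 1) := by ring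
        _ = 1 := by rw [h7, h13]; ring
    rw [h14] at h12
    have : (1 : F) = 0 := by linear_combination h12 - h2
    exact one_ne_zero this
  rcases mul_eq_zero.1 h10 with h12 | h12
  · rcases mul_eq_zero.1 h12 with h13 | h13
    · exact hμ0 h13
    · have h14 : x + 1 = 0 := by simpa using h13
      apply hμ1
      apply Units.ext
      rw [← hx, Units.val_one]
      linear_combination h14 - h2
  · exact h11 h12

/-- elements of order 13 fix nothing -/
theorem no_fix (x : GG hF) (hx : orderOf x = 13) (M : VV F) (hM : x • M = M) : M = 0 := by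
  have hr : x.right = 1 := right_eq_one hF x (by rw [hx]; norm_num)
  have hl : orderOf x.left = 13 := (order_left hF x hr).trans hx
  set X := mt x.left with hX
  have h13 : X ^ 13 = 1 := by rw [hX, ← mt_pow, ← hl, pow_orderOf_eq_one]; rfl
  have hX1 : X ≠ 1 := by
    intro h
    have h3 : x.left = 1 := ext2 h
    rw [h3, orderOf_one] at hl
    norm_num at hl
  have h1 : X * M.map (fr F) = X * M.map (fr F) := rfl
  obtain ⟨M', hM'⟩ : ∃ M' : Matrix (Fin 4) (Fin 4) F, M' = M := ⟨_, rfl⟩
  have h2 : X * M' * tau x.left = M' := by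
    have h3 : aM hF x M' = M' := by rw [hM']; exact hM
    unfold aM at h3
    rw [hr] at h3
    exact h3
  have h3 : tau x.left * (X.map (fr F)) = 1 := by
    unfold tau
    rw [← map_mul4, hX, ← mt_mul, inv_mul_cancel, mt_one]
    exact Matrix.map_one (fr F) (map_zero _) (map_one _)
  have h4 : X * M' = M' * X.map (fr F) := by
    calc X * M' = X * M' * (tau x.left * X.map (fr F)) := by rw [h3, mul_one]
      _ = (X * M' * tau x.left) * X.map (fr F) := by rw [Matrix.mul_assoc, Matrix.mul_assoc, Matrix.mul_assoc]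
      _ = M' * X.map (fr F) := by rw [h2]
  have h5 : ∀ a ∈ Subring.closure {X}, a * M' = M' * a.map (fr F) := by
    intro a ha
    induction ha using Subring.closure_induction with
    | mem x hx => rw [Set.mem_singleton_iff] at hx; rw [hx, h4]
    | zero => rw [Matrix.map_zero _ (map_zero _), mul_zero, zero_mul]
    | one => rw [Matrix.map_one _ (map_zero _) (map_one _), mul_one, one_mul]
    | add x y _ _ hx hy => rw [Matrix.map_add _ (map_add _), mul_add, add_mul, hx, hy]
    | neg x _ hx =>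
      have : (-x).map (fr F) = -(x.map (fr F)) := by
        ext i j
        exact map_neg (fr F) _
      rw [this, mul_neg, neg_mul, hx]
    | mul x y _ _ hx hy => rw [map_mul4, Matrix.mul_assoc, hy, ← Matrix.mul_assoc, hx, Matrix.mul_assoc]
  obtain ⟨ω, hω⟩ : ∃ ω : F, ω ^ 2 ≠ ω := by
    by_contra h
    push Not at h
    have h6 : fr F = 1 := by ext x; exact h x
    have h7 := fr_order hF
    rw [h6, orderOf_one] at h7
    norm_num at h7
  have h6 := h5 _ (scalar_mem hF X h13 hX1 ω)
  have h7 : (ω • (1 : Matrix (Fin 4) (Fin 4) F)).map (fr F) = ω ^ 2 • (1 : Matrix (Fin 4) (Fin 4) F) := by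
    ext i j
    rw [Matrix.map_apply, Matrix.smul_apply, Matrix.smul_apply, smul_eq_mul, smul_eq_mul, fr_apply, mul_pow]
    congr 1
    rw [Matrix.one_apply]
    split_ifs <;> simp
  rw [h7, Matrix.smul_mul, Matrix.mul_smul, one_mul, mul_one] at h6
  have h8 : (ω ^ 2 - ω) • M' = 0 := by rw [sub_smul, h6, sub_self]
  rcases smul_eq_zero.1 h8 with h9 | h9
  · exact absurd (sub_eq_zero.1 h9) hω
  · rw [← hM']; exact h9

/-- elements of order 3 do not commute with elements of order 7 or 13 -/
theorem no_comm (x y : GG hF) (hx : orderOf x = 3) (hy : orderOf y = 7 ∨ orderOf y = 13) (hc : Commute x y) : False := by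
  obtain ⟨h, -, h2⟩ := conj_ss hF x hx
  set y' := h * y * h⁻¹ with hy'
  have hy'o : orderOf y' = orderOf y := by
    have := MulEquiv.orderOf_eq (MulAut.conj h) y
    exact this
  have hc' : Commute (ss hF) y' := by
    obtain ⟨n, hn⟩ := Subgroup.mem_zpowers_iff.1 h2
    rw [← hn]
    apply Commute.zpow_left
    rw [hy']
    change (h * x * h⁻¹) * (h * y * h⁻¹) = (h * y * h⁻¹) * (h * x * h⁻¹)
    have h3 : x * y = y * x := hc
    calc (h * x * h⁻¹) * (h * y * h⁻¹) = h * (x * y) * h⁻¹ := by group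
      _ = h * (y * x) * h⁻¹ := by rw [h3]
      _ = _ := by group
  have hr : y'.right = 1 := by
    apply right_eq_one
    rw [hy'o]
    rcases hy with h | h <;> rw [h] <;> norm_num
  have hl := order_left hF y' hr
  have hfix : fh hF (fr F) y'.left = y'.left := by
    have h3 := congrArg SemidirectProduct.left (show ss hF * y' = y' * ss hF from hc')
    have e0 : (ss hF).left = 1 := rfl
    have e1 : (ss hF * y').left = (ss hF).left * fh hF (fr F) y'.left := rfl
    have e2 : (y' * ss hF).left = y'.left * fh hF (y'.right) (ss hF).left := rfl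
    rw [e1, e2, e0, map_one, mul_one, one_mul] at h3
    exact h3
  rcases hy with h | h
  · exact no7 hF _ hfix (hl.trans (hy'o.trans h))
  · exact no13 hF _ hfix (hl.trans (hy'o.trans h))

/-! ### Existence -/

theorem exists_mul_order (s : Cfsg.Sz F 1) (hs : fh hF (fr F) s = s) (hc : Nat.Coprime (orderOf s) 3) : ∃ g : GG hF, orderOf g = orderOf s * 3 := by
  refine ⟨SemidirectProduct.inl s * ss hF, ?_⟩
  have h1 : Commute (SemidirectProduct.inl s : GG hF) (ss hF) := by
    apply SemidirectProduct.ext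
    · have e1 : (SemidirectProduct.inl s * ss hF : GG hF).left = s * fh hF (1 : CC F) 1 := rfl
      have e2 : (ss hF * SemidirectProduct.inl s : GG hF).left = 1 * fh hF (fr F) s := rfl
      rw [e1, e2, map_one, mul_one, one_mul, hs]
    · have e1 : (SemidirectProduct.inl s * ss hF : GG hF).right = 1 * (ss hF).right := rfl
      have e2 : (ss hF * SemidirectProduct.inl s : GG hF).right = (ss hF).right * 1 := rfl
      rw [e1, e2, mul_one, one_mul]
  have h2 : orderOf (SemidirectProduct.inl s : GG hF) = orderOf s := orderOf_injective _ SemidirectProduct.inl_injective s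
  rw [h1.orderOf_mul_eq_mul_orderOf_of_coprime, h2, ss_order]
  rw [h2, ss_order]; exact hc

theorem fix_of_entries (y : Cfsg.Sz F 1) (h : ∀ i j, mt y i j = 0 ∨ mt y i j = 1) : fh hF (fr F) y = y := by
  apply ext2
  rw [fh_mat]
  ext i j
  rw [Matrix.map_apply, fr_apply]
  rcases h i j with h | h <;> rw [h] <;> simp

/-- the involution -/
theorem exists_two : ∃ s : Cfsg.Sz F 1, fh hF (fr F) s = s ∧ orderOf s = 2 := by
  refine ⟨wS hF, ?_, ?_⟩
  · apply fix_of_entries
    intro i j
    change wm F i j = 0 ∨ wm F i j = 1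
    fin_cases i <;> fin_cases j <;> simp [wm]
  · apply orderOf_eq_prime
    · rw [pow_two]; exact wS_mul_wS hF
    · intro h
      have h1 : mt (wS hF) 0 0 = (1 : Matrix (Fin 4) (Fin 4) F) 0 0 := by rw [h]; rfl
      have h2 : mt (wS hF) 0 0 = 0 := by
        change wm F 0 0 = 0
        simp [wm]
      rw [h2] at h1
      simp at h1

/-- the matrix of the element of order 5 -/
def Y5 : Matrix (Fin 4) (Fin 4) (ZMod 2) := !![1, 1, 0, 1; 1, 0, 1, 0; 0, 1, 0, 0; 1, 0, 0, 0]

theorem Y5_pow : Y5 ^ 5 = 1 := by decide +kernel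

/-- the element of order 5 -/
theorem exists_five : ∃ s : Cfsg.Sz F 1, fh hF (fr F) s = s ∧ orderOf s = 5 := by
  have : Fact (Nat.Prime 5) := ⟨by norm_num⟩
  have hm : mt (tS hF 0 1 * wS hF) = (cc (F := F)).mapMatrix Y5 := by
    rw [mt_mul]
    have e1 : mt (tS hF 0 1) = Tm (th F 1) 0 1 := rfl
    have e2 : mt (wS hF) = wm F := rfl
    rw [e1, e2]
    ext i j
    rw [RingHom.mapMatrix_apply, Matrix.map_apply]
    fin_cases i <;> fin_cases j <;> simp [Tm, wm, Y5, Matrix.mul_apply, Fin.sum_univ_four]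
  refine ⟨tS hF 0 1 * wS hF, ?_, ?_⟩
  · apply fix_of_entries
    intro i j
    rw [hm, RingHom.mapMatrix_apply, Matrix.map_apply]
    have h2 : ∀ z : ZMod 2, z = 0 ∨ z = 1 := by decide
    rcases h2 (Y5 i j) with h | h <;> rw [h] <;> simp
  · apply orderOf_eq_prime
    · apply ext2
      rw [mt_pow, hm, ← map_pow, Y5_pow, map_one]
      rfl
    · intro h
      rw [h] at hm
      have h1 := congrFun (congrFun hm 0) 1
      rw [RingHom.mapMatrix_apply, Matrix.map_apply] at h1
      change (1 : Matrix (Fin 4) (Fin 4) F) 0 1 = cc (Y5 0 1) at h1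
      have h3 : Y5 0 1 = 1 := by decide
      rw [h3, map_one] at h1
      simp at h1

theorem inl_order (s : Cfsg.Sz F 1) : orderOf (SemidirectProduct.inl s : GG hF) = orderOf s := orderOf_injective _ SemidirectProduct.inl_injective s

theorem exists_fix5 : ∃ x : GG hF, orderOf x = 5 ∧ ∃ w : VV F, w ≠ 0 ∧ x • w = w := by
  obtain ⟨s, h1, h2⟩ := exists_five hF
  refine ⟨SemidirectProduct.inl s, (inl_order hF s).trans h2, (1 : Matrix (Fin 4) (Fin 4) F), ?_, ?_⟩
  · exact one_ne_zero (α := Matrix (Fin 4) (Fin 4) F)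
  · change aM hF (SemidirectProduct.inl s) 1 = 1
    unfold aM
    change mt s * (1 : Matrix (Fin 4) (Fin 4) F).map ((1 : CC F) : F ≃+* F) * tau s = 1
    rw [Matrix.map_one _ (map_zero _) (map_one _), mul_one]
    unfold tau
    have h3 : (mt s⁻¹).map (fr F) = mt s⁻¹ := by
      rw [← fh_mat hF, map_inv, h1]
    rw [h3, ← mt_mul, mul_inv_cancel, mt_one]

theorem exists_fix7 : ∃ x : GG hF, orderOf x = 7 ∧ ∃ w : VV F, w ≠ 0 ∧ x • w = w := by
  obtain ⟨μ, hμ⟩ : ∃ μ : Fˣ, orderOf μ = 7 := by
    have hc : Nat.card Fˣ = 7 := by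
      rw [Nat.card_units, Nat.card_eq_fintype_card, hF]
      norm_num
    obtain ⟨μ, hμ⟩ := IsCyclic.exists_ofOrder_eq_natCard (α := Fˣ)
    exact ⟨μ, hμ.trans hc⟩
  have : Fact (Nat.Prime 7) := ⟨by norm_num⟩
  have hμ1 : μ ≠ 1 := by
    rintro rfl
    rw [orderOf_one] at hμ
    norm_num at hμ
  have hS7 : orderOf (hS hF μ) = 7 := by
    apply orderOf_eq_prime
    · have : ∀ n : ℕ, (hS hF μ) ^ n = hS hF (μ ^ n) := by
        intro n
        induction n with
        | zero => rw [pow_zero, pow_zero, hS_one]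
        | succ n ih => rw [pow_succ, pow_succ, ih, hS_mul]
      rw [this, ← hμ, pow_orderOf_eq_one, hS_one]
    · intro h
      exact hμ1 ((hS_eq_one_iff hF).1 h)
  refine ⟨SemidirectProduct.inl (hS hF μ), (inl_order hF _).trans hS7, Matrix.single 3 1 (1 : F), ?_, ?_⟩
  · intro h
    have h1 := congrFun (congrFun (show Matrix.single 3 1 (1 : F) = (0 : Matrix (Fin 4) (Fin 4) F) from h) 3) 1
    simp at h1
  · change aM hF (SemidirectProduct.inl (hS hF μ)) (Matrix.single 3 1 (1 : F)) = Matrix.single 3 1 (1 : F)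
    unfold aM
    change mt (hS hF μ) * (Matrix.single 3 1 (1 : F)).map ((1 : CC F) : F ≃+* F) * tau (hS hF μ) = _
    have h7 : (μ : F) ^ 7 = 1 := by
      rw [← Units.val_pow_eq_pow_val, ← hμ, pow_orderOf_eq_one, Units.val_one]
    have e1 : mt (hS hF μ) = Matrix.diagonal ![(μ : F) ^ 5, μ, (μ : F)⁻¹, ((μ : F) ^ 5)⁻¹] := by
      have h3 : mt (hS hF μ) = Hm (th F 1) μ := rfl
      have hth : th F 1 (μ : F) = (μ : F) ^ 4 := by rw [th_apply]; norm_num
      rw [h3]
      unfold Hm
      rw [hth]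
      ext i j
      fin_cases i <;> fin_cases j <;> simp [Matrix.diagonal_apply] <;> ring
    have e2 : tau (hS hF μ) = Matrix.diagonal ![((μ⁻¹ : Fˣ) : F) ^ 10, ((μ⁻¹ : Fˣ) : F) ^ 2, (((μ⁻¹ : Fˣ) : F) ^ 2)⁻¹, (((μ⁻¹ : Fˣ) : F) ^ 10)⁻¹] := by
      unfold tau
      rw [hS_inv]
      have h3 : mt (hS hF μ⁻¹) = Hm (th F 1) μ⁻¹ := rfl
      have hth : th F 1 ((μ⁻¹ : Fˣ) : F) = ((μ⁻¹ : Fˣ) : F) ^ 4 := by rw [th_apply]; norm_num
      rw [h3]
      unfold Hm
      rw [hth]
      ext i j
      rw [Matrix.map_apply, fr_apply]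
      fin_cases i <;> fin_cases j <;> simp [Matrix.diagonal_apply] <;> ring
    have e3 : (Matrix.single 3 1 (1 : F)).map ((1 : CC F) : F ≃+* F) = (Matrix.single 3 1 (1 : F) : Matrix (Fin 4) (Fin 4) F) := by
      ext i j; rfl
    rw [e1, e2, e3]
    ext i j
    rw [Matrix.mul_diagonal, Matrix.diagonal_mul]
    by_cases hij : i = 3 ∧ j = 1
    · rw [hij.1, hij.2, Matrix.single_apply_same]
      simp only [Matrix.cons_val, Matrix.cons_val_one, mul_one]
      rw [Units.val_inv_eq_inv_val, inv_pow, ← mul_inv]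
      have h8 : (μ : F) ^ 5 * (μ : F) ^ 2 = 1 := by linear_combination h7
      rw [h8, inv_one]
    · have h9 : Matrix.single 3 1 (1 : F) i j = 0 := by
        apply Matrix.single_apply_of_ne
        rintro ⟨h1, h2⟩
        exact hij ⟨h1.symm, h2.symm⟩
      rw [h9, mul_zero, zero_mul]

include hF in
/-- the groups and their prime graphs -/
theorem exists_large_sz (N : ℕ) :
    ∃ (H : Type) (_ : Group H) (_ : Finite H), N < Nat.card H ∧
      (∀ p : ℕ, p.Prime → (p ∣ Nat.card H ↔ p = 2 ∨ p = 3 ∨ p = 5 ∨ p = 7 ∨ p = 13)) ∧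
      ∀ p q : ℕ, p.Prime → q.Prime → p ≠ q → ((∃ g : H, orderOf g = p * q) ↔ (p * q = 6 ∨ p * q = 10 ∨ p * q = 14 ∨ p * q = 15)) := by
  have h2 : ∀ v : VV F, v + v = 0 := by
    intro v
    have : ∀ M : Matrix (Fin 4) (Fin 4) F, M + M = 0 := by
      intro M
      ext i j
      exact CharTwo.add_self_eq_zero _
    exact this v
  obtain ⟨H, i1, i2, hN, hdvd, hedge⟩ := exists_large (G := GG hF) (V := VV F) h2 N
  have hprimes : ∀ p : ℕ, p.Prime → (p ∣ Nat.card (GG hF) ↔ p = 2 ∨ p = 3 ∨ p = 5 ∨ p = 7 ∨ p = 13) := by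
    intro p hp
    rw [card_GG]
    constructor
    · intro h
      have h3 : p ∈ (87360 : ℕ).primeFactors := Nat.mem_primeFactors.2 ⟨hp, h, by norm_num⟩
      have h4 : (87360 : ℕ).primeFactors = {2, 3, 5, 7, 13} := by
        have : (87360 : ℕ) = 2 ^ 6 * (3 * (5 * (7 * 13))) := by norm_num
        rw [this, Nat.primeFactors_mul (by norm_num) (by norm_num), Nat.primeFactors_mul (by norm_num) (by norm_num), Nat.primeFactors_mul (by norm_num) (by norm_num),
          Nat.primeFactors_mul (by norm_num) (by norm_num), Nat.primeFactors_pow _ (by norm_num), Nat.Prime.primeFactors Nat.prime_two, Nat.Prime.primeFactors Nat.prime_three,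
          Nat.Prime.primeFactors (by norm_num : Nat.Prime 5), Nat.Prime.primeFactors (by norm_num : Nat.Prime 7), Nat.Prime.primeFactors (by norm_num : Nat.Prime 13)]
        rfl
      rw [h4] at h3
      simpa using h3
    · rintro (rfl | rfl | rfl | rfl | rfl) <;> norm_num
  refine ⟨H, i1, i2, hN, ?_, ?_⟩
  · intro p hp
    rw [hdvd p hp, hprimes p hp]
    tauto
  · intro p q hp hq hpq
    rw [hedge p q hp hq hpq]
    -- one-sided analysis
    have key : ∀ p q : ℕ, p.Prime → q.Prime → p ≠ q → p = 3 → (∃ g : GG hF, orderOf g = p * q) → p * q = 6 ∨ p * q = 15 := by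
      rintro p q hp hq hpq rfl ⟨g, hg⟩
      have h3 : q ∣ Nat.card (GG hF) := (dvd_mul_left q 3).trans (hg ▸ orderOf_dvd_natCard g)
      rw [hprimes q hq] at h3
      have hx : orderOf (g ^ q) = 3 := by
        rw [orderOf_pow' _ hq.ne_zero, hg, Nat.gcd_eq_right (dvd_mul_left q 3), Nat.mul_div_cancel _ hq.pos]
      have hy : orderOf (g ^ 3) = q := by
        rw [orderOf_pow' _ (by norm_num), hg, Nat.gcd_eq_right (dvd_mul_right 3 q), Nat.mul_div_cancel_left _ (by norm_num)]
      rcases h3 with rfl | rfl | rfl | rfl | rfl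
      · left; norm_num
      · exact absurd rfl hpq
      · right; norm_num
      · exact (no_comm hF _ _ hx (Or.inl hy) ((Commute.refl g).pow_pow _ _)).elim
      · exact (no_comm hF _ _ hx (Or.inr hy) ((Commute.refl g).pow_pow _ _)).elim
    have key2 : ∀ q : ℕ, q.Prime → 2 ≠ q → (∃ x : GG hF, orderOf x = q ∧ ∃ w : VV F, w ≠ 0 ∧ x • w = w) → 2 * q = 6 ∨ 2 * q = 10 ∨ 2 * q = 14 := by
      rintro q hq hpq ⟨x, hx, w, hw, hxw⟩
      have h3 : q ∣ Nat.card (GG hF) := hx ▸ orderOf_dvd_natCard x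
      rw [hprimes q hq] at h3
      rcases h3 with rfl | rfl | rfl | rfl | rfl
      · exact absurd rfl hpq
      · left; norm_num
      · right; left; norm_num
      · right; right; norm_num
      · exact absurd (no_fix hF x hx w hxw) hw
    constructor
    · rintro (⟨g, hg⟩ | ⟨rfl, h⟩ | ⟨rfl, h⟩)
      · by_cases hp3 : p = 3
        · have := key p q hp hq hpq hp3 ⟨g, hg⟩
          tauto
        · by_cases hq3 : q = 3
          · rw [mul_comm] at hg
            have := key q p hq hp hpq.symm hq3 ⟨g, hg⟩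
            rw [mul_comm q p] at this
            tauto
          · exact absurd hg (order_not hF g hp hq hpq hp3 hq3)
      · have := key2 q hq hpq h
        tauto
      · have := key2 p hp hpq.symm h
        rw [mul_comm 2 p] at this
        tauto
    · intro h
      have h6 : ∃ g : GG hF, orderOf g = 6 := by
        obtain ⟨s, h3, h4⟩ := exists_two hF
        obtain ⟨g, hg⟩ := exists_mul_order hF s h3 (by rw [h4]; norm_num)
        exact ⟨g, by rw [hg, h4]⟩
      have h15 : ∃ g : GG hF, orderOf g = 15 := by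
        obtain ⟨s, h3, h4⟩ := exists_five hF
        obtain ⟨g, hg⟩ := exists_mul_order hF s h3 (by rw [h4]; norm_num)
        exact ⟨g, by rw [hg, h4]⟩
      rcases h with h | h | h | h
      · left; rw [h]; exact h6
      · have h9 : p ∣ 2 * 5 := ⟨q, by rw [h]⟩
        rcases (hp.dvd_mul).1 h9 with h10 | h10
        · have hp2 : p = 2 := (Nat.prime_dvd_prime_iff_eq hp Nat.prime_two).1 h10
          have hq5 : q = 5 := by rw [hp2] at h; omega
          right; left; rw [hp2, hq5]; exact ⟨rfl, exists_fix5 hF⟩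
        · have hp2 : p = 5 := (Nat.prime_dvd_prime_iff_eq hp (by norm_num)).1 h10
          have hq5 : q = 2 := by rw [hp2] at h; omega
          right; right; rw [hp2, hq5]; exact ⟨rfl, exists_fix5 hF⟩
      · have h9 : p ∣ 2 * 7 := ⟨q, by rw [h]⟩
        rcases (hp.dvd_mul).1 h9 with h10 | h10
        · have hp2 : p = 2 := (Nat.prime_dvd_prime_iff_eq hp Nat.prime_two).1 h10
          have hq5 : q = 7 := by rw [hp2] at h; omega
          right; left; rw [hp2, hq5]; exact ⟨rfl, exists_fix7 hF⟩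
        · have hp2 : p = 7 := (Nat.prime_dvd_prime_iff_eq hp (by norm_num)).1 h10
          have hq5 : q = 2 := by rw [hp2] at h; omega
          right; right; rw [hp2, hq5]; exact ⟨rfl, exists_fix7 hF⟩
      · left; rw [h]; exact h15

end gen

theorem exists_large_final (N : ℕ) :
    ∃ (H : Type) (_ : Group H) (_ : Finite H), N < Nat.card H ∧
      (∀ p : ℕ, p.Prime → (p ∣ Nat.card H ↔ p = 2 ∨ p = 3 ∨ p = 5 ∨ p = 7 ∨ p = 13)) ∧
      ∀ p q : ℕ, p.Prime → q.Prime → p ≠ q → ((∃ g : H, orderOf g = p * q) ↔ (p * q = 6 ∨ p * q = 10 ∨ p * q = 14 ∨ p * q = 15)) := by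
  have : Fact (Nat.Prime 2) := ⟨Nat.prime_two⟩
  let F := GaloisField 2 3
  have i1 : Fintype F := Fintype.ofFinite _
  have hF : Fintype.card F = 2 ^ (2 * 1 + 1) := by
    rw [← Nat.card_eq_fintype_card]
    exact GaloisField.card 2 3 (by norm_num)
  exact exists_large_sz hF N

end Cfsg.Agent.H41.SzThree
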