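import Cfsg.Agent.H41.Torus
import Cfsg.Agent.H41.ClassCount

set_option autoImplicit false
set_option linter.unusedSimpArgs false
set_option linter.style.haveILetI false
set_option linter.unusedSectionVars false

open Matrix Polynomial

namespace Cfsg.Agent.H41

section

variable {F : Type*} [Field F]

theorem tr_inv (A : Matrix.SpecialLinearGroup (Fin 2) F) : tr A⁻¹ = tr A := by
  simp only [tr, inv_00, inv_11]; ring

theorem tr_one' : tr (1 : Matrix.SpecialLinearGroup (Fin 2) F) = 2 := by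
  simp only [tr, one_00, one_11]; norm_num

theorem commute_comp {s : Matrix.SpecialLinearGroup (Fin 2) F} {τ : F} (h : s * comp τ = comp τ * s) :
    s 0 1 = - s 1 0 ∧ s 1 1 = s 0 0 + s 1 0 * τ := by
  have h00 := congrArg (fun M : Matrix.SpecialLinearGroup (Fin 2) F => M 0 0) h
  have h10 := congrArg (fun M : Matrix.SpecialLinearGroup (Fin 2) F => M 1 0) h
  simp only [comp, mul_00, mul_01, mul_10, mul_11, mk4_00, mk4_01, mk4_10, mk4_11] at h00 h10
  constructor
  · linear_combination h00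
  · linear_combination h10

theorem eq_or_inv_of_commute_comp (h2 : (2 : F) ≠ 0) {s : Matrix.SpecialLinearGroup (Fin 2) F} {τ : F}
    (hτ : τ ^ 2 ≠ 4) (h : s * comp τ = comp τ * s) (htr : tr s = τ) : s = comp τ ∨ s = (comp τ)⁻¹ := by
  obtain ⟨h01, h11⟩ := commute_comp h
  have hd := det_eq s
  rw [h01, h11] at hd
  simp only [tr] at htr
  rw [h11] at htr
  have key : (s 1 0 - 1) * (s 1 0 + 1) * (τ ^ 2 - 4) = 0 := by
    linear_combination -4 * hd + (2 * s 0 0 + τ * s 1 0 + τ) * htr
  have h4 : τ ^ 2 - 4 ≠ 0 := sub_ne_zero.mpr hτ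
  rcases mul_eq_zero.mp key with h5 | h5
  · rcases mul_eq_zero.mp h5 with h6 | h6
    · left
      have e10 : s 1 0 = 1 := by linear_combination h6
      have e00 : s 0 0 = 0 := by
        have : 2 * s 0 0 = 0 := by rw [e10] at htr; linear_combination htr
        exact (mul_eq_zero.mp this).resolve_left h2
      apply sl2_ext <;> simp only [comp, mk4_00, mk4_01, mk4_10, mk4_11]
      · exact e00
      · rw [h01, e10]
      · exact e10
      · rw [h11, e00, e10]; ring
    · right
      have e10 : s 1 0 = -1 := by linear_combination h6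
      have e00 : s 0 0 = τ := by
        have : 2 * (s 0 0 - τ) = 0 := by rw [e10] at htr; linear_combination htr
        have := (mul_eq_zero.mp this).resolve_left h2
        linear_combination this
      apply sl2_ext <;> simp only [comp, inv_00, inv_01, inv_10, inv_11, mk4_00, mk4_01, mk4_10, mk4_11]
      · exact e00
      · rw [h01, e10]
      · exact e10
      · rw [h11, e00, e10]; ring
  · exact absurd h5 h4

/-- In odd characteristic, an element commuting with a regular semisimple `t` and of the same trace is `t` or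
`t⁻¹`. -/
theorem eq_or_inv_of_commute [Finite F] (h2 : (2 : F) ≠ 0) {s t : Matrix.SpecialLinearGroup (Fin 2) F}
    (ht : tr t ^ 2 ≠ 4) (h : s * t = t * s) (htr : tr s = tr t) : s = t ∨ s = t⁻¹ := by
  obtain ⟨P, hP⟩ := exists_conj_comp t ht
  have h1 : (P⁻¹ * s * P) * comp (tr t) = comp (tr t) * (P⁻¹ * s * P) := by
    have e : comp (tr t) = P⁻¹ * t * P := by
      nth_rewrite 2 [hP]; group
    rw [e]
    calc P⁻¹ * s * P * (P⁻¹ * t * P) = P⁻¹ * (s * t) * P := by group
      _ = P⁻¹ * (t * s) * P := by rw [h]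
      _ = P⁻¹ * t * P * (P⁻¹ * s * P) := by group
  have h3 : tr (P⁻¹ * s * P) = tr t := by
    have := tr_conj s P⁻¹
    rw [inv_inv] at this
    rw [this, htr]
  rcases eq_or_inv_of_commute_comp h2 ht h1 h3 with h4 | h4
  · left
    rw [hP, ← h4]; group
  · right
    have : s = P * (comp (tr t))⁻¹ * P⁻¹ := by rw [← h4]; group
    rw [this]
    nth_rewrite 2 [hP]
    group

theorem tr_eq_zero_of_inverts {g t : Matrix.SpecialLinearGroup (Fin 2) F} (ht : tr t ^ 2 ≠ 4)
    (h : g * t * g⁻¹ = t⁻¹) : tr g = 0 := by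
  have h1 : t * g * t = g := by
    rw [mul_inv_eq_iff_eq_mul] at h
    rw [mul_assoc, h]; group
  have e1 : tr g = tr (g * (t * t)) := by
    have : tr (t * g * t) = tr (t⁻¹ * (t * g * t) * t⁻¹⁻¹) := (tr_conj _ _).symm
    rw [h1] at this
    rw [this]
    congr 1
    nth_rewrite 1 [← h1]
    group
  have e2 : tr (g * t) = tr (g * (t * t * t)) := by
    rw [← tr_conj (g * (t * t * t)) t]
    congr 1
    calc g * t = (t * g * t) * t := by rw [h1]
      _ = t * (g * (t * t * t)) * t⁻¹ := by group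
  have lin : ∀ A B : Matrix.SpecialLinearGroup (Fin 2) F, tr (A * (B * B)) = tr B * tr (A * B) - tr A := by
    intro A B
    have hd := det_eq B
    simp only [tr, mul_00, mul_01, mul_10, mul_11]
    linear_combination -(A 0 0 + A 1 1) * hd
  have e3 := lin g t
  have e4 : tr (g * (t * t * t)) = tr t * tr (g * t * t) - tr (g * t) := by
    have := lin (g * t) t
    rw [← this]
    congr 1
    simp only [mul_assoc]
  have e5 : tr (g * t * t) = tr (g * (t * t)) := by rw [mul_assoc]
  have key : tr g * (tr t ^ 2 - 4) = 0 := by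
    rw [e5, ← e1] at e4
    rw [e4] at e2
    rw [← e1] at e3
    linear_combination (-2) * e3 - tr t * e2
  exact (mul_eq_zero.mp key).resolve_right (sub_ne_zero.mpr ht)

section

variable [Finite F] (h2 : (2 : F) ≠ 0) (T : Subgroup (Matrix.SpecialLinearGroup (Fin 2) F))
  (t : Matrix.SpecialLinearGroup (Fin 2) F) (ht : tr t ^ 2 ≠ 4)
  (hC : Subgroup.centralizer ({t} : Set (Matrix.SpecialLinearGroup (Fin 2) F)) = T)

include h2 ht hC

theorem torus_norm_cases {g : Matrix.SpecialLinearGroup (Fin 2) F}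
    (hg : g ∈ Subgroup.normalizer (T : Set (Matrix.SpecialLinearGroup (Fin 2) F))) :
    g ∈ T ∨ g * t * g⁻¹ = t⁻¹ := by
  have htT : t ∈ T := by
    rw [← hC, Subgroup.mem_centralizer_singleton_iff]
  have h1 : g * t * g⁻¹ ∈ T := by
    rw [Subgroup.mem_normalizer_iff] at hg
    exact (hg t).mp htT
  rw [← hC, Subgroup.mem_centralizer_singleton_iff] at h1
  rcases eq_or_inv_of_commute h2 ht h1 (tr_conj t g) with h | h
  · left
    rw [← hC, Subgroup.mem_centralizer_singleton_iff]
    rw [mul_inv_eq_iff_eq_mul] at h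
    exact h
  · right; exact h

theorem torus_exists_inverting : ∃ w ∈ Subgroup.normalizer (T : Set (Matrix.SpecialLinearGroup (Fin 2) F)),
    w * t * w⁻¹ = t⁻¹ ∧ w ∉ T := by
  obtain ⟨w, hw⟩ := exists_conj_of_tr_eq t t⁻¹ ht (tr_inv t).symm
  have hwT : w ∉ T := by
    rw [← hC, Subgroup.mem_centralizer_singleton_iff]
    intro h
    rw [h] at hw
    rw [mul_inv_cancel_right] at hw
    have : t * t = 1 := by nth_rewrite 1 [← hw]; simp
    have h3 := tr_mul_self t
    rw [this, tr_one'] at h3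
    apply ht
    linear_combination -h3
  refine ⟨w, ?_, hw.symm, hwT⟩
  rw [Subgroup.mem_normalizer_iff]
  intro s
  rw [← hC, Subgroup.mem_centralizer_singleton_iff, Subgroup.mem_centralizer_singleton_iff]
  have key : t = w⁻¹ * t⁻¹ * w := by rw [hw]; group
  constructor
  · intro h
    have h4 : s * t⁻¹ = t⁻¹ * s := (Commute.inv_right (show Commute s t from h)).eq
    have e : t = w * t⁻¹ * w⁻¹ := by
      have := congrArg (fun x => x⁻¹) hw
      simp only [inv_inv] at this
      calc t = (w * t * w⁻¹)⁻¹ := this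
        _ = w * t⁻¹ * w⁻¹ := by group
    calc w * s * w⁻¹ * t = w * s * w⁻¹ * (w * t⁻¹ * w⁻¹) := by rw [← e]
      _ = w * (s * t⁻¹) * w⁻¹ := by group
      _ = w * (t⁻¹ * s) * w⁻¹ := by rw [h4]
      _ = (w * t⁻¹ * w⁻¹) * (w * s * w⁻¹) := by group
      _ = t * (w * s * w⁻¹) := by rw [← e]
  · intro h
    have h4 : (w * s * w⁻¹) * t⁻¹ = t⁻¹ * (w * s * w⁻¹) := (Commute.inv_right (show Commute (w * s * w⁻¹) t from h)).eq
    calc s * t = s * (w⁻¹ * t⁻¹ * w) := by rw [← key]
      _ = w⁻¹ * ((w * s * w⁻¹) * t⁻¹) * w := by group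
      _ = w⁻¹ * (t⁻¹ * (w * s * w⁻¹)) * w := by rw [h4]
      _ = (w⁻¹ * t⁻¹ * w) * s := by group
      _ = t * s := by rw [← key]

theorem torus_relIndex :
    T.relIndex (Subgroup.normalizer (T : Set (Matrix.SpecialLinearGroup (Fin 2) F))) = 2 := by
  obtain ⟨w, hwN, hw, hwT⟩ := torus_exists_inverting h2 T t ht hC
  rw [Subgroup.relIndex, Subgroup.index_eq_two_iff]
  refine ⟨⟨w, hwN⟩, ?_⟩
  rintro ⟨g, hg⟩
  rw [Subgroup.mem_subgroupOf, Subgroup.mem_subgroupOf]
  simp only [Subgroup.coe_mul]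
  rcases torus_norm_cases h2 T t ht hC hg with h | h
  · right
    refine ⟨h, fun h' => hwT ?_⟩
    exact (Subgroup.mul_mem_cancel_left T h).mp h'
  · have hgT : g ∉ T := by
      intro h'
      rw [← hC, Subgroup.mem_centralizer_singleton_iff] at h'
      rw [h', mul_inv_cancel_right] at h
      have : t * t = 1 := by nth_rewrite 1 [h]; simp
      have h3 := tr_mul_self t
      rw [this, tr_one'] at h3
      apply ht
      linear_combination -h3
    left
    refine ⟨?_, hgT⟩
    rw [← hC, Subgroup.mem_centralizer_singleton_iff]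
    have h5 : g * t⁻¹ * g⁻¹ = t := by
      have := congrArg (fun x => x⁻¹) h
      simp only [inv_inv] at this
      calc g * t⁻¹ * g⁻¹ = (g * t * g⁻¹)⁻¹ := by group
        _ = t := this
    rw [mul_inv_eq_iff_eq_mul] at hw h5
    rw [mul_assoc, hw, ← mul_assoc, h5, mul_assoc]

theorem torus_card_normalizer :
    Nat.card (Subgroup.normalizer (T : Set (Matrix.SpecialLinearGroup (Fin 2) F))) = 2 * Nat.card T := by
  have h1 := torus_relIndex h2 T t ht hC
  have h3 := Subgroup.card_mul_index (T.subgroupOf (Subgroup.normalizer (T : Set (Matrix.SpecialLinearGroup (Fin 2) F))))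
  rw [Subgroup.relIndex] at h1
  rw [h1] at h3
  rw [← h3, mul_comm]
  congr 1
  exact Nat.card_congr (Subgroup.subgroupOfEquivOfLe Subgroup.le_normalizer).toEquiv

theorem torus_norm_sq {g : Matrix.SpecialLinearGroup (Fin 2) F}
    (hg : g ∈ Subgroup.normalizer (T : Set (Matrix.SpecialLinearGroup (Fin 2) F))) (hgT : g ∉ T) :
    g * g = -1 := by
  rcases torus_norm_cases h2 T t ht hC hg with h | h
  · exact absurd h hgT
  · exact mul_self_eq_neg_one_of_tr_eq_zero (tr_eq_zero_of_inverts ht h)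

theorem torus_card_conjClasses (hgen : ∀ s ∈ T, s ∈ Subgroup.zpowers t) (m : ℕ) (hm : Nat.card T = 2 * m) :
    Nat.card (ConjClasses (Subgroup.normalizer (T : Set (Matrix.SpecialLinearGroup (Fin 2) F)))) = m + 3 := by
  have htT : t ∈ T := by
    rw [← hC, Subgroup.mem_centralizer_singleton_iff]
  apply card_conjClasses_of_inverting _ (T.subgroupOf (Subgroup.normalizer (T : Set (Matrix.SpecialLinearGroup (Fin 2) F))))
  · have hT : IsCyclic T := ⟨⟨⟨t, htT⟩, fun x => by
      obtain ⟨n, hn⟩ := hgen x.1 x.2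
      exact ⟨n, Subtype.ext hn⟩⟩⟩
    exact isCyclic_of_surjective (Subgroup.subgroupOfEquivOfLe (Subgroup.le_normalizer (H := T))).symm
      (Subgroup.subgroupOfEquivOfLe Subgroup.le_normalizer).symm.surjective
  · rw [← hm]
    exact Nat.card_congr (Subgroup.subgroupOfEquivOfLe Subgroup.le_normalizer).toEquiv
  · exact torus_relIndex h2 T t ht hC
  · rintro ⟨g, hg⟩ hgT ⟨s, hs⟩ hsT
    rw [Subgroup.mem_subgroupOf] at hgT hsT
    apply Subtype.ext
    change g * s * g⁻¹ = s⁻¹
    rcases torus_norm_cases h2 T t ht hC hg with h | h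
    · exact absurd h hgT
    · obtain ⟨n, hn⟩ := hgen s hsT
      change t ^ n = s at hn
      rw [← hn, ← conj_zpow, h, _root_.inv_zpow]

end

end


section centr

variable {F : Type*} [Field F]

/-- Elements commuting with a regular semisimple `t` are linear combinations of `1` and `t`. -/
theorem exists_span_of_commute [Finite F] {s t : Matrix.SpecialLinearGroup (Fin 2) F}
    (ht : tr t ^ 2 ≠ 4) (h : s * t = t * s) : ∃ x y : F,
      (s : Matrix (Fin 2) (Fin 2) F) = x • (1 : Matrix (Fin 2) (Fin 2) F) + y • (t : Matrix (Fin 2) (Fin 2) F) := by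
  obtain ⟨P, hP⟩ := exists_conj_comp t ht
  have h1 : (P⁻¹ * s * P) * comp (tr t) = comp (tr t) * (P⁻¹ * s * P) := by
    have e : comp (tr t) = P⁻¹ * t * P := by
      nth_rewrite 2 [hP]; group
    rw [e]
    calc P⁻¹ * s * P * (P⁻¹ * t * P) = P⁻¹ * (s * t) * P := by group
      _ = P⁻¹ * (t * s) * P := by rw [h]
      _ = P⁻¹ * t * P * (P⁻¹ * s * P) := by group
  obtain ⟨h01, h11⟩ := commute_comp h1
  set s' := P⁻¹ * s * P with hs'
  have e1 : (s' : Matrix (Fin 2) (Fin 2) F) = (s' 0 0) • (1 : Matrix (Fin 2) (Fin 2) F) +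
      (s' 1 0) • (comp (tr t) : Matrix (Fin 2) (Fin 2) F) := by
    ext i j
    fin_cases i <;> fin_cases j
    · simp [comp, mk4]
    · simp [comp, mk4, h01]
    · simp [comp, mk4]
    · simp [comp, mk4, h11]
  have e2 : (s : Matrix (Fin 2) (Fin 2) F) = (P : Matrix (Fin 2) (Fin 2) F) * s' * (P⁻¹ : Matrix.SpecialLinearGroup (Fin 2) F) := by
    rw [← Matrix.SpecialLinearGroup.coe_mul, ← Matrix.SpecialLinearGroup.coe_mul, hs']
    exact congrArg Subtype.val (show s = P * (P⁻¹ * s * P) * P⁻¹ by group)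
  have e3 : (t : Matrix (Fin 2) (Fin 2) F) = (P : Matrix (Fin 2) (Fin 2) F) * (comp (tr t)) * (P⁻¹ : Matrix.SpecialLinearGroup (Fin 2) F) := by
    rw [← Matrix.SpecialLinearGroup.coe_mul, ← Matrix.SpecialLinearGroup.coe_mul]
    exact congrArg Subtype.val hP
  have e4 : (P : Matrix (Fin 2) (Fin 2) F) * (P⁻¹ : Matrix.SpecialLinearGroup (Fin 2) F) = 1 := by
    rw [← Matrix.SpecialLinearGroup.coe_mul, mul_inv_cancel, Matrix.SpecialLinearGroup.coe_one]
  refine ⟨s' 0 0, s' 1 0, ?_⟩
  rw [e2]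
  nth_rewrite 1 [e1]
  conv_rhs => rw [e3]
  rw [mul_add, add_mul, Matrix.mul_smul, Matrix.smul_mul, Matrix.mul_smul, Matrix.smul_mul, mul_one, e4]

theorem tr_spHom_sq_ne_four {u : Fˣ} (hu : u ^ 2 ≠ 1) : tr (spHom u) ^ 2 ≠ 4 := by
  intro h
  apply hu
  rw [tr_spHom] at h
  have h1 : (u : F) * ((u⁻¹ : Fˣ) : F) = 1 := by simp
  have h2 : ((u : F) - ((u⁻¹ : Fˣ) : F)) ^ 2 = 0 := by linear_combination h - 4 * h1
  have h3 : (u : F) = ((u⁻¹ : Fˣ) : F) := by
    have := pow_eq_zero_iff (two_ne_zero) |>.mp h2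
    linear_combination this
  apply Units.ext
  rw [Units.val_pow_eq_pow_val, Units.val_one, pow_two]
  nth_rewrite 2 [h3]
  exact h1

theorem mem_range_spHom_iff {g : Matrix.SpecialLinearGroup (Fin 2) F} :
    g ∈ (spHom (F := F)).range ↔ g 0 1 = 0 ∧ g 1 0 = 0 := by
  constructor
  · rintro ⟨u, rfl⟩; simp
  · rintro ⟨h1, h2⟩
    have hd := det_eq g
    rw [h1, h2] at hd
    have h3 : g 0 0 * g 1 1 = 1 := by linear_combination hd
    refine ⟨Units.mk (g 0 0) (g 1 1) h3 (by rw [mul_comm]; exact h3), ?_⟩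
    apply sl2_ext
    · simp
    · simp [h1]
    · simp [h2]
    · simp

theorem centralizer_spHom {u : Fˣ} (hu : u ^ 2 ≠ 1) :
    Subgroup.centralizer ({spHom u} : Set (Matrix.SpecialLinearGroup (Fin 2) F)) = (spHom (F := F)).range := by
  ext g
  rw [Subgroup.mem_centralizer_singleton_iff, mem_range_spHom_iff]
  have hne : (u : F) - ((u⁻¹ : Fˣ) : F) ≠ 0 := by
    intro h
    apply hu
    have h3 : (u : F) = ((u⁻¹ : Fˣ) : F) := by linear_combination h
    apply Units.ext
    rw [Units.val_pow_eq_pow_val, Units.val_one, pow_two]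
    nth_rewrite 2 [h3]
    simp
  constructor
  · intro h
    have h01 := congrArg (fun M : Matrix.SpecialLinearGroup (Fin 2) F => M 0 1) h
    have h10 := congrArg (fun M : Matrix.SpecialLinearGroup (Fin 2) F => M 1 0) h
    simp only [mul_01, mul_10, spHom_00, spHom_01, spHom_10, spHom_11] at h01 h10
    constructor
    · have : ((u : F) - ((u⁻¹ : Fˣ) : F)) * g 0 1 = 0 := by linear_combination -h01
      exact (mul_eq_zero.mp this).resolve_left hne
    · have : ((u : F) - ((u⁻¹ : Fˣ) : F)) * g 1 0 = 0 := by linear_combination h10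
      exact (mul_eq_zero.mp this).resolve_left hne
  · rintro ⟨h1, h2⟩
    apply sl2_ext <;> simp only [mul_00, mul_01, mul_10, mul_11, spHom_00, spHom_01, spHom_10, spHom_11, h1, h2] <;> ring

theorem card_range_spHom [Finite F] : Nat.card (spHom (F := F)).range = Nat.card F - 1 := by
  rw [← Nat.card_units]
  exact (Nat.card_congr (MonoidHom.ofInjective spHom_injective).toEquiv).symm

variable {K : Type*} [Field K] [Algebra F K] [Finite K]

theorem card_range_nsHom (h2 : Module.finrank F K = 2) : Nat.card (nsHom (F := F) (K := K) h2).range = Nat.card F + 1 := by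
  rw [← card_normOne h2]
  exact (Nat.card_congr (MonoidHom.ofInjective (nsHom_injective h2)).toEquiv).symm

theorem normOne_pow_card (z : normOne F K) : ((z : Kˣ) : K) ^ Nat.card F = (((z⁻¹ : normOne F K) : Kˣ) : K) := by
  have h := mem_normOne.mp z.2
  have h1 : ((z : Kˣ) : K) ≠ 0 := Units.ne_zero _
  rw [pow_succ] at h
  have : (((z⁻¹ : normOne F K) : Kˣ) : K) = (((z : Kˣ) : K))⁻¹ := by simp
  rw [this]
  exact eq_inv_of_mul_eq_one_left h

theorem tr_nsHom_sq_ne_four (h2 : Module.finrank F K = 2) {z : normOne F K} (hz : z ^ 2 ≠ 1) :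
    tr (nsHom h2 z) ^ 2 ≠ 4 := by
  intro h
  apply hz
  have h1 := congrArg (algebraMap F K) h
  rw [map_pow, tr_nsHom, normOne_pow_card, map_ofNat] at h1
  have h3 : ((z : Kˣ) : K) * (((z⁻¹ : normOne F K) : Kˣ) : K) = 1 := by simp
  have h4 : (((z : Kˣ) : K) - (((z⁻¹ : normOne F K) : Kˣ) : K)) ^ 2 = 0 := by linear_combination h1 - 4 * h3
  have h5 : ((z : Kˣ) : K) = (((z⁻¹ : normOne F K) : Kˣ) : K) := by
    have := pow_eq_zero_iff (two_ne_zero) |>.mp h4
    linear_combination this
  have h6 : z = z⁻¹ := Subtype.ext (Units.ext h5)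
  rw [pow_two]
  nth_rewrite 2 [h6]
  simp

theorem centralizer_nsHom (h2 : Module.finrank F K = 2) {z : normOne F K} (hz : z ^ 2 ≠ 1) :
    Subgroup.centralizer ({nsHom h2 z} : Set (Matrix.SpecialLinearGroup (Fin 2) F)) = (nsHom h2).range := by
  haveI := finite_base F K
  ext g
  rw [Subgroup.mem_centralizer_singleton_iff]
  constructor
  · intro h
    obtain ⟨x, y, hxy⟩ := exists_span_of_commute (tr_nsHom_sq_ne_four h2 hz) h
    have h3 : (g : Matrix (Fin 2) (Fin 2) F) = nsMat h2 (algebraMap F K x + y • ((z : Kˣ) : K)) := by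
      rw [hxy, nsMat_add, nsMat_algebraMap, nsMat_smul, coe_nsHom]
    set w := algebraMap F K x + y • ((z : Kˣ) : K) with hw
    have h4 : w ^ (Nat.card F + 1) = 1 := by
      rw [← det_nsMat h2, ← h3, g.det_coe, map_one]
    have hw0 : w ≠ 0 := by
      intro h
      rw [h, zero_pow (by omega)] at h4
      exact zero_ne_one h4
    refine ⟨⟨Units.mk0 w hw0, mem_normOne.mpr (by simpa using h4)⟩, ?_⟩
    apply Subtype.ext
    rw [coe_nsHom, h3]
    rfl
  · rintro ⟨w, rfl⟩
    rw [← map_mul, ← map_mul, mul_comm]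

/-- The eigenvector formulation of `NoEig`. -/
theorem noEig_of_no_eigenvector (g : Matrix.SpecialLinearGroup (Fin 2) F)
    (hg : ∀ (c : F) (v : Fin 2 → F), v ≠ 0 → (g : Matrix (Fin 2) (Fin 2) F).mulVec v ≠ c • v) :
    NoEig (tr g) := by
  intro a ha
  have hd := det_eq g
  have h1 : ((g : Matrix (Fin 2) (Fin 2) F) - a • (1 : Matrix (Fin 2) (Fin 2) F)).det = 0 := by
    rw [Matrix.det_fin_two]
    simp [tr] at ha ⊢
    linear_combination ha + hd
  obtain ⟨v, hv, hv2⟩ := Matrix.exists_mulVec_eq_zero_iff.mpr h1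
  apply hg a v hv
  rw [Matrix.sub_mulVec, Matrix.smul_mulVec, Matrix.one_mulVec, sub_eq_zero] at hv2
  exact hv2

end centr

end Cfsg.Agent.H41
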