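import Cfsg.Agent.H41.StHom4
import Cfsg.Prelude.Def_ChevB2

set_option autoImplicit false
set_option linter.unusedSectionVars false
set_option linter.unusedVariables false

/-! Tables for the two representations of the Steinberg group of type B2 over the field with 3 elements. -/

namespace Cfsg.Agent.H41.U4Tab

open Cfsg.Lie Cfsg.Agent.H41 Cfsg.Agent.H41.SmallMat Matrix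

def tabU : List (List (M4 E4)) :=
  [[⟨⟨.i, .o, .o, .o⟩, ⟨.o, .i, .o, .o⟩, ⟨.o, .o, .i, .o⟩, ⟨.o, .o, .o, .i⟩⟩, ⟨⟨.v, .o, .o, .o⟩, ⟨.o, .v, .o, .o⟩, ⟨.o, .o, .i, .o⟩, ⟨.o, .o, .o, .v⟩⟩, ⟨⟨.w, .o, .o, .o⟩, ⟨.o, .w, .o, .o⟩, ⟨.o, .o, .i, .o⟩, ⟨.o, .o, .o, .w⟩⟩],
   [⟨⟨.i, .o, .o, .o⟩, ⟨.o, .i, .o, .o⟩, ⟨.o, .o, .i, .o⟩, ⟨.o, .o, .o, .i⟩⟩, ⟨⟨.w, .o, .o, .o⟩, ⟨.o, .v, .o, .o⟩, ⟨.o, .o, .i, .o⟩, ⟨.o, .o, .o, .i⟩⟩, ⟨⟨.v, .o, .o, .o⟩, ⟨.o, .w, .o, .o⟩, ⟨.o, .o, .i, .o⟩, ⟨.o, .o, .o, .i⟩⟩],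
   [⟨⟨.i, .o, .o, .o⟩, ⟨.o, .i, .o, .o⟩, ⟨.o, .o, .i, .o⟩, ⟨.o, .o, .o, .i⟩⟩, ⟨⟨.o, .o, .o, .i⟩, ⟨.i, .o, .o, .o⟩, ⟨.o, .o, .i, .o⟩, ⟨.o, .i, .o, .o⟩⟩, ⟨⟨.o, .i, .o, .o⟩, ⟨.o, .o, .o, .i⟩, ⟨.o, .o, .i, .o⟩, ⟨.i, .o, .o, .o⟩⟩],
   [⟨⟨.i, .o, .o, .o⟩, ⟨.o, .i, .o, .o⟩, ⟨.o, .o, .i, .o⟩, ⟨.o, .o, .o, .i⟩⟩, ⟨⟨.w, .o, .o, .o⟩, ⟨.o, .w, .o, .o⟩, ⟨.o, .o, .w, .o⟩, ⟨.o, .o, .o, .i⟩⟩, ⟨⟨.v, .o, .o, .o⟩, ⟨.o, .v, .o, .o⟩, ⟨.o, .o, .v, .o⟩, ⟨.o, .o, .o, .i⟩⟩],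
   [⟨⟨.i, .o, .o, .o⟩, ⟨.o, .i, .o, .o⟩, ⟨.o, .o, .i, .o⟩, ⟨.o, .o, .o, .i⟩⟩, ⟨⟨.i, .w, .o, .w⟩, ⟨.w, .i, .o, .w⟩, ⟨.o, .o, .v, .o⟩, ⟨.w, .w, .o, .i⟩⟩, ⟨⟨.i, .v, .o, .v⟩, ⟨.v, .i, .o, .v⟩, ⟨.o, .o, .w, .o⟩, ⟨.v, .v, .o, .i⟩⟩],
   [⟨⟨.i, .o, .o, .o⟩, ⟨.o, .i, .o, .o⟩, ⟨.o, .o, .i, .o⟩, ⟨.o, .o, .o, .i⟩⟩, ⟨⟨.o, .o, .i, .o⟩, ⟨.i, .o, .o, .o⟩, ⟨.o, .i, .o, .o⟩, ⟨.o, .o, .o, .i⟩⟩, ⟨⟨.o, .i, .o, .o⟩, ⟨.o, .o, .i, .o⟩, ⟨.i, .o, .o, .o⟩, ⟨.o, .o, .o, .i⟩⟩],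
   [⟨⟨.i, .o, .o, .o⟩, ⟨.o, .i, .o, .o⟩, ⟨.o, .o, .i, .o⟩, ⟨.o, .o, .o, .i⟩⟩, ⟨⟨.v, .o, .w, .w⟩, ⟨.o, .w, .v, .v⟩, ⟨.w, .v, .o, .i⟩, ⟨.w, .v, .i, .o⟩⟩, ⟨⟨.w, .o, .v, .v⟩, ⟨.o, .v, .w, .w⟩, ⟨.v, .w, .o, .i⟩, ⟨.v, .w, .i, .o⟩⟩],
   [⟨⟨.i, .o, .o, .o⟩, ⟨.o, .i, .o, .o⟩, ⟨.o, .o, .i, .o⟩, ⟨.o, .o, .o, .i⟩⟩, ⟨⟨.i, .v, .v, .o⟩, ⟨.v, .i, .v, .o⟩, ⟨.v, .v, .i, .o⟩, ⟨.o, .o, .o, .w⟩⟩, ⟨⟨.i, .w, .w, .o⟩, ⟨.w, .i, .w, .o⟩, ⟨.w, .w, .i, .o⟩, ⟨.o, .o, .o, .v⟩⟩]]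

def mU (r : ℕ) (a : ZMod 3) : M4 E4 := (tabU.getD r []).getD (ZMod.val a) ⟨⟨.i, .o, .o, .o⟩, ⟨.o, .i, .o, .o⟩, ⟨.o, .o, .i, .o⟩, ⟨.o, .o, .o, .i⟩⟩

def tabS : List (List (M4 (ZMod 3))) :=
  [[⟨⟨1, 0, 0, 0⟩, ⟨0, 1, 0, 0⟩, ⟨0, 0, 1, 0⟩, ⟨0, 0, 0, 1⟩⟩, ⟨⟨1, 0, 0, 0⟩, ⟨0, 1, 0, 0⟩, ⟨1, 0, 1, 0⟩, ⟨0, 0, 0, 1⟩⟩, ⟨⟨1, 0, 0, 0⟩, ⟨0, 1, 0, 0⟩, ⟨2, 0, 1, 0⟩, ⟨0, 0, 0, 1⟩⟩],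
   [⟨⟨1, 0, 0, 0⟩, ⟨0, 1, 0, 0⟩, ⟨0, 0, 1, 0⟩, ⟨0, 0, 0, 1⟩⟩, ⟨⟨1, 0, 0, 0⟩, ⟨0, 1, 0, 0⟩, ⟨0, 1, 1, 0⟩, ⟨1, 0, 0, 1⟩⟩, ⟨⟨1, 0, 0, 0⟩, ⟨0, 1, 0, 0⟩, ⟨0, 2, 1, 0⟩, ⟨2, 0, 0, 1⟩⟩],
   [⟨⟨1, 0, 0, 0⟩, ⟨0, 1, 0, 0⟩, ⟨0, 0, 1, 0⟩, ⟨0, 0, 0, 1⟩⟩, ⟨⟨1, 0, 0, 0⟩, ⟨1, 1, 0, 0⟩, ⟨0, 0, 1, 2⟩, ⟨0, 0, 0, 1⟩⟩, ⟨⟨1, 0, 0, 0⟩, ⟨2, 1, 0, 0⟩, ⟨0, 0, 1, 1⟩, ⟨0, 0, 0, 1⟩⟩],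
   [⟨⟨1, 0, 0, 0⟩, ⟨0, 1, 0, 0⟩, ⟨0, 0, 1, 0⟩, ⟨0, 0, 0, 1⟩⟩, ⟨⟨1, 0, 0, 0⟩, ⟨0, 1, 0, 0⟩, ⟨0, 0, 1, 0⟩, ⟨0, 2, 0, 1⟩⟩, ⟨⟨1, 0, 0, 0⟩, ⟨0, 1, 0, 0⟩, ⟨0, 0, 1, 0⟩, ⟨0, 1, 0, 1⟩⟩],
   [⟨⟨1, 0, 0, 0⟩, ⟨0, 1, 0, 0⟩, ⟨0, 0, 1, 0⟩, ⟨0, 0, 0, 1⟩⟩, ⟨⟨1, 0, 0, 0⟩, ⟨0, 1, 0, 2⟩, ⟨0, 0, 1, 0⟩, ⟨0, 0, 0, 1⟩⟩, ⟨⟨1, 0, 0, 0⟩, ⟨0, 1, 0, 1⟩, ⟨0, 0, 1, 0⟩, ⟨0, 0, 0, 1⟩⟩],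
   [⟨⟨1, 0, 0, 0⟩, ⟨0, 1, 0, 0⟩, ⟨0, 0, 1, 0⟩, ⟨0, 0, 0, 1⟩⟩, ⟨⟨1, 1, 0, 0⟩, ⟨0, 1, 0, 0⟩, ⟨0, 0, 1, 0⟩, ⟨0, 0, 2, 1⟩⟩, ⟨⟨1, 2, 0, 0⟩, ⟨0, 1, 0, 0⟩, ⟨0, 0, 1, 0⟩, ⟨0, 0, 1, 1⟩⟩],
   [⟨⟨1, 0, 0, 0⟩, ⟨0, 1, 0, 0⟩, ⟨0, 0, 1, 0⟩, ⟨0, 0, 0, 1⟩⟩, ⟨⟨1, 0, 0, 1⟩, ⟨0, 1, 1, 0⟩, ⟨0, 0, 1, 0⟩, ⟨0, 0, 0, 1⟩⟩, ⟨⟨1, 0, 0, 2⟩, ⟨0, 1, 2, 0⟩, ⟨0, 0, 1, 0⟩, ⟨0, 0, 0, 1⟩⟩],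
   [⟨⟨1, 0, 0, 0⟩, ⟨0, 1, 0, 0⟩, ⟨0, 0, 1, 0⟩, ⟨0, 0, 0, 1⟩⟩, ⟨⟨1, 0, 1, 0⟩, ⟨0, 1, 0, 0⟩, ⟨0, 0, 1, 0⟩, ⟨0, 0, 0, 1⟩⟩, ⟨⟨1, 0, 2, 0⟩, ⟨0, 1, 0, 0⟩, ⟨0, 0, 1, 0⟩, ⟨0, 0, 0, 1⟩⟩]]

def mS (r : ℕ) (a : ZMod 3) : M4 (ZMod 3) := (tabS.getD r []).getD (ZMod.val a) ⟨⟨1, 0, 0, 0⟩, ⟨0, 1, 0, 0⟩, ⟨0, 0, 1, 0⟩, ⟨0, 0, 0, 1⟩⟩

section checks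
set_option synthInstance.maxHeartbeats 400000
set_option synthInstance.maxSize 2000

theorem mU0 (r : ℕ) (hr : chevB2.nroots ≤ r) (a : ZMod 3) : (mU r a).f = 1 := by
  have h1 : tabU.getD r [] = [] := by
    rw [List.getD_eq_default]
    exact hr
  unfold mU
  rw [h1, List.getD_nil]
  apply mat_ext4
  intro k
  rw [f_act, Matrix.one_mulVec]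
  revert k
  decide

theorem mS0 (r : ℕ) (hr : chevB2.nroots ≤ r) (a : ZMod 3) : (mS r a).f = 1 := by
  have h1 : tabS.getD r [] = [] := by
    rw [List.getD_eq_default]
    exact hr
  unfold mS
  rw [h1, List.getD_nil]
  apply mat_ext4
  intro k
  rw [f_act, Matrix.one_mulVec]
  revert k
  decide

theorem mU1 : ∀ r < 8, ∀ a b : ZMod 3, ∀ k, wact [mU r a, mU r b] (e4 E4 k) = wact [mU r (a + b)] (e4 E4 k) := by decide +kernel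

theorem mU2 : ∀ r < 8, ∀ s < 8, s ≠ r → s ≠ chevB2.neg r → ∀ a b : ZMod 3, ∀ k, wact [mU s b, mU r a] (e4 E4 k) =
      wact (mU r a :: mU s b :: ((chevB2.commTerms r s).map fun c => mU c.1 ((c.2.1 : ZMod 3) * (-a) ^ c.2.2.1 * b ^ c.2.2.2))) (e4 E4 k) := by decide +kernel

theorem mU3 : ∀ r < 8, ∀ a b : ZMod 3, a ≠ 0 → b ≠ 0 → ∀ k, wact ((chevB2.hWord r a).map (fun c => mU c.1 c.2) ++ (chevB2.hWord r b).map (fun c => mU c.1 c.2)) (e4 E4 k) =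
      wact ((chevB2.hWord r (a * b)).map fun c => mU c.1 c.2) (e4 E4 k) := by decide +kernel

theorem mS1 : ∀ r < 8, ∀ a b : ZMod 3, ∀ k, wact [mS r a, mS r b] (e4 (ZMod 3) k) = wact [mS r (a + b)] (e4 (ZMod 3) k) := by decide +kernel

theorem mS2 : ∀ r < 8, ∀ s < 8, s ≠ r → s ≠ chevB2.neg r → ∀ a b : ZMod 3, ∀ k, wact [mS s b, mS r a] (e4 (ZMod 3) k) =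
      wact (mS r a :: mS s b :: ((chevB2.commTerms r s).map fun c => mS c.1 ((c.2.1 : ZMod 3) * (-a) ^ c.2.2.1 * b ^ c.2.2.2))) (e4 (ZMod 3) k) := by decide +kernel

theorem mS3 : ∀ r < 8, ∀ a b : ZMod 3, a ≠ 0 → b ≠ 0 → ∀ k, wact ((chevB2.hWord r a).map (fun c => mS c.1 c.2) ++ (chevB2.hWord r b).map (fun c => mS c.1 c.2)) (e4 (ZMod 3) k) =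
      wact ((chevB2.hWord r (a * b)).map fun c => mS c.1 c.2) (e4 (ZMod 3) k) := by decide +kernel

/-- the index bijection -/
def sig : Fin 2 ⊕ Fin 2 ≃ Fin 4 := finSumFinEquiv

theorem mS_sp : ∀ r < 9, ∀ a : ZMod 3, ((mS r a).f.submatrix sig sig) * J (Fin 2) (ZMod 3) * ((mS r a).f.submatrix sig sig)ᵀ = J (Fin 2) (ZMod 3) := by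
  decide +kernel

/-- conjugate-transpose -/
theorem mU_gu : ∀ r < 9, ∀ a : ZMod 3, ((mU r a).f.map E4.conj)ᵀ * (mU r a).f = 1 := by
  decide +kernel

theorem mU_det : ∀ r < 9, ∀ a : ZMod 3, (mU r a).f.det = 1 := by
  decide +kernel

theorem mU_nc : wact [mU 4 1, mU 5 1, mU 3 1, mU 5 1, mU 4 1] (e4 E4 0) ≠ wact [mU 5 1, mU 4 1, mU 3 1, mU 4 1, mU 5 1] (e4 E4 0) ∨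
    wact [mU 4 1, mU 5 1, mU 3 1, mU 5 1, mU 4 1] (e4 E4 1) ≠ wact [mU 5 1, mU 4 1, mU 3 1, mU 4 1, mU 5 1] (e4 E4 1) := by decide +kernel

theorem mS_nc : wact [mS 4 1, mS 5 1, mS 3 1, mS 5 1, mS 4 1] (e4 (ZMod 3) 0) ≠ wact [mS 5 1, mS 4 1, mS 3 1, mS 4 1, mS 5 1] (e4 (ZMod 3) 0) ∨
    wact [mS 4 1, mS 5 1, mS 3 1, mS 5 1, mS 4 1] (e4 (ZMod 3) 1) ≠ wact [mS 5 1, mS 4 1, mS 3 1, mS 4 1, mS 5 1] (e4 (ZMod 3) 1) := by decide +kernel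

end checks

end Cfsg.Agent.H41.U4Tab
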