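import Mathlib

set_option autoImplicit false
set_option linter.unusedSimpArgs false

namespace Cfsg.Agent.H41

open Polynomial

variable {F : Type*} [Field F] [Finite F]

section
variable {V : Type*} [AddCommGroup V] [Module F V] [FiniteDimensional F V]

/-- An endomorphism of prime order `r`, `r` a primitive prime divisor of `q^n - 1`, has irreducible minimal polynomial. -/
theorem minpoly_of_ppd (x : Module.End F V) (r : ℕ) (hr : r.Prime) (hx : x ^ r = 1) (hx1 : x ≠ 1)
    (hk : ∀ k, 0 < k → k < Module.finrank F V → ¬ r ∣ Nat.card F ^ k - 1) (hrF : (r : F) ≠ 0) :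
    Irreducible (minpoly F x) ∧ (minpoly F x).natDegree = Module.finrank F V := by
  have hint : IsIntegral F x := Algebra.IsIntegral.isIntegral x
  have hdvd : minpoly F x ∣ X ^ r - 1 := minpoly.dvd F x (by simp [hx])
  have hsep : (X ^ r - 1 : F[X]).Separable := X_pow_sub_one_separable_iff.mpr hrF
  have hsqf : Squarefree (minpoly F x) := hsep.squarefree.squarefree_of_dvd hdvd
  have hmonic := minpoly.monic hint
  have hX1 : Irreducible (X - 1 : F[X]) := by
    have := irreducible_X_sub_C (1 : F)
    simpa using this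
  have hX1m : (X - 1 : F[X]).Monic := by
    have := monic_X_sub_C (1 : F)
    simpa using this
  -- an irreducible factor different from `X - 1`
  obtain ⟨f, hf, hfd, hfX⟩ : ∃ f : F[X], Irreducible f ∧ f ∣ minpoly F x ∧ ¬ f ∣ X - 1 := by
    by_cases h1 : (X - 1) ∣ minpoly F x
    · obtain ⟨h, hh⟩ := h1
      have hu : ¬ IsUnit h := by
        intro hu
        have h2 : minpoly F x ∣ X - 1 := by
          rw [hh]; exact hu.mul_right_dvd.mpr dvd_rfl
        obtain ⟨c, hc⟩ := h2
        have h3 := congrArg (aeval x) hc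
        rw [map_mul, minpoly.aeval, zero_mul, map_sub, aeval_X, map_one, sub_eq_zero] at h3
        exact hx1 h3
      have h0 : h ≠ 0 := by
        rintro rfl
        rw [mul_zero] at hh
        exact hmonic.ne_zero hh
      obtain ⟨f, hf, hfh⟩ := WfDvdMonoid.exists_irreducible_factor hu h0
      refine ⟨f, hf, hh ▸ hfh.mul_left _, ?_⟩
      intro hfX
      have h4 : X - 1 ∣ f := (hf.dvd_symm hX1 hfX)
      have h5 : (X - 1) * (X - 1) ∣ minpoly F x := by
        rw [hh]; exact mul_dvd_mul_left _ (h4.trans hfh)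
      exact hX1.not_isUnit (hsqf _ h5)
    · have hnu : ¬ IsUnit (minpoly F x) := by
        intro hu
        have h2 := hmonic.eq_one_of_isUnit hu
        have h3 := minpoly.aeval F x
        rw [h2, map_one] at h3
        apply hx1
        calc x = x * 1 := (mul_one x).symm
          _ = 1 := by rw [h3, mul_zero]
      obtain ⟨f, hf, hfh⟩ := WfDvdMonoid.exists_irreducible_factor hnu hmonic.ne_zero
      exact ⟨f, hf, hfh, fun h => h1 ((hf.dvd_symm hX1 h).trans hfh)⟩
  -- degree of f
  have : Fact (Irreducible f) := ⟨hf⟩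
  have hfin : Module.finrank F (AdjoinRoot f) = f.natDegree := by
    rw [(AdjoinRoot.powerBasis hf.ne_zero).finrank, AdjoinRoot.powerBasis_dim]
  have : Module.Finite F (AdjoinRoot f) := (AdjoinRoot.powerBasis hf.ne_zero).finite
  have : Finite (AdjoinRoot f) := Module.finite_of_finite F
  have hcard : Nat.card (AdjoinRoot f) = Nat.card F ^ f.natDegree := by
    rw [Module.natCard_eq_pow_finrank (K := F), hfin]
  have hroot : (AdjoinRoot.root f) ^ r = 1 := by
    have h := AdjoinRoot.mk_eq_zero.mpr (hfd.trans hdvd)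
    rw [map_sub, map_pow, AdjoinRoot.mk_X, map_one, sub_eq_zero] at h
    exact h
  have hroot1 : AdjoinRoot.root f ≠ 1 := by
    intro h
    apply hfX
    rw [← AdjoinRoot.mk_eq_zero, map_sub, AdjoinRoot.mk_X, map_one, h, sub_self]
  have hr0 : AdjoinRoot.root f ≠ 0 := by
    intro h
    rw [h, zero_pow hr.ne_zero] at hroot
    exact zero_ne_one hroot
  have hdvd2 : r ∣ Nat.card F ^ f.natDegree - 1 := by
    have : Fact r.Prime := ⟨hr⟩
    obtain ⟨u, hu⟩ : ∃ u : (AdjoinRoot f)ˣ, (u : AdjoinRoot f) = AdjoinRoot.root f := ⟨Units.mk0 _ hr0, rfl⟩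
    have h1 : orderOf u = r := by
      apply orderOf_eq_prime
      · apply Units.ext
        rw [Units.val_pow_eq_pow_val, hu, hroot, Units.val_one]
      · intro h
        apply hroot1
        rw [← hu, h, Units.val_one]
    rw [← h1, ← hcard, ← Nat.card_units]
    exact orderOf_dvd_natCard u
  have hpos : 0 < f.natDegree := hf.natDegree_pos
  have hle1 : Module.finrank F V ≤ f.natDegree := by
    by_contra hcon
    exact hk _ hpos (by omega) hdvd2
  have hle2 : f.natDegree ≤ (minpoly F x).natDegree := natDegree_le_of_dvd hfd hmonic.ne_zero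
  have hle3 : (minpoly F x).natDegree ≤ Module.finrank F V := by
    rw [← LinearMap.charpoly_natDegree (f := x)]
    exact natDegree_le_of_dvd (LinearMap.minpoly_dvd_charpoly x) (LinearMap.charpoly_monic x).ne_zero
  have hdeg : (minpoly F x).natDegree = Module.finrank F V := by omega
  refine ⟨?_, hdeg⟩
  have hass : Associated f (minpoly F x) := by
    apply associated_of_dvd_of_natDegree_le hfd hmonic.ne_zero
    omega
  exact hass.irreducible hf

/-- The commutant of an irreducible endomorphism of full degree is a field `K`. -/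
theorem exists_field_str (x : Module.End F V) (hirr : Irreducible (minpoly F x))
    (hdeg : (minpoly F x).natDegree = Module.finrank F V)
    (K : Type*) [Field K] [Algebra F K] [Finite K] (hK : Module.finrank F K = Module.finrank F V) :
    ∃ e : K ≃ₗ[F] V, ∀ u : Module.End F V, u * x = x * u → ∃ k : K, ∀ m, u (e m) = e (k * m) := by
  obtain ⟨f, hf⟩ : ∃ f, f = minpoly F x := ⟨_, rfl⟩
  rw [← hf] at hirr hdeg
  have : Fact (Irreducible f) := ⟨hirr⟩
  have hfin : Module.finrank F (AdjoinRoot f) = f.natDegree := by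
    rw [(AdjoinRoot.powerBasis hirr.ne_zero).finrank, AdjoinRoot.powerBasis_dim]
  have : Module.Finite F (AdjoinRoot f) := (AdjoinRoot.powerBasis hirr.ne_zero).finite
  have : Finite (AdjoinRoot f) := Module.finite_of_finite F
  obtain ⟨ρ, hρ⟩ : ∃ ρ : AdjoinRoot f →ₐ[F] Module.End F V, ∀ p, ρ (AdjoinRoot.mk f p) = aeval x p := by
    refine ⟨Ideal.Quotient.liftₐ (Ideal.span {f}) (aeval x) ?_, fun p => rfl⟩
    intro a ha
    rw [Ideal.mem_span_singleton] at ha
    obtain ⟨c, rfl⟩ := ha
    rw [map_mul, hf, minpoly.aeval, zero_mul]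
  have hpos : 0 < Module.finrank F V := by rw [← hdeg]; exact hirr.natDegree_pos
  have : Nontrivial V := Module.nontrivial_of_finrank_pos hpos
  obtain ⟨v0, hv0⟩ := exists_ne (0 : V)
  -- the isomorphism `L ≃ V`
  obtain ⟨e0, he0⟩ : ∃ e0 : AdjoinRoot f →ₗ[F] V, ∀ l, e0 l = ρ l v0 :=
    ⟨{ toFun := fun l => ρ l v0
       map_add' := fun a b => by rw [map_add, LinearMap.add_apply]
       map_smul' := fun c a => by rw [map_smul, LinearMap.smul_apply, RingHom.id_apply] }, fun l => rfl⟩
  have hinj : Function.Injective e0 := by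
    rw [injective_iff_map_eq_zero]
    intro l hl
    by_contra hl0
    apply hv0
    have h1 : ρ (l⁻¹ * l) v0 = v0 := by
      rw [inv_mul_cancel₀ hl0, map_one, Module.End.one_apply]
    rw [map_mul, Module.End.mul_apply, ← he0, hl, map_zero] at h1
    exact h1.symm
  have hfr : Module.finrank F (AdjoinRoot f) = Module.finrank F V := by rw [hfin, hdeg]
  obtain ⟨e1, he1⟩ : ∃ e1 : AdjoinRoot f ≃ₗ[F] V, ∀ l, e1 l = ρ l v0 :=
    ⟨LinearEquiv.ofBijective e0 ⟨hinj, (LinearMap.injective_iff_surjective_of_finrank_eq_finrank hfr).mp hinj⟩, he0⟩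
  -- `K ≃ L`
  obtain ⟨φ⟩ : Nonempty (K ≃ₐ[F] AdjoinRoot f) := by
    obtain ⟨p, hp⟩ := CharP.exists F
    have : Fact p.Prime := ⟨CharP.char_is_prime F p⟩
    have : NeZero (Module.finrank F V) := ⟨by omega⟩
    exact ⟨(FiniteField.algEquivExtension F p (Module.finrank F V) K hK).trans
      (FiniteField.algEquivExtension F p (Module.finrank F V) (AdjoinRoot f) hfr).symm⟩
  refine ⟨φ.toLinearEquiv.trans e1, ?_⟩
  intro u hu
  have hcomm : ∀ l, u * ρ l = ρ l * u := by
    intro l
    obtain ⟨p, rfl⟩ := AdjoinRoot.mk_surjective l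
    rw [hρ]
    have : Commute u (aeval x p) := by
      induction p using Polynomial.induction_on' with
      | add p q hp hq => rw [map_add]; exact hp.add_right hq
      | monomial n a =>
        rw [aeval_monomial]
        exact (Algebra.commute_algebraMap_right a u).mul_right (Commute.pow_right hu n)
    exact this
  obtain ⟨l, hl⟩ := e1.surjective (u v0)
  refine ⟨φ.symm l, ?_⟩
  intro m
  simp only [LinearEquiv.trans_apply, AlgEquiv.toLinearEquiv_apply, map_mul, AlgEquiv.apply_symm_apply]
  rw [he1, he1, ← Module.End.mul_apply, hcomm, Module.End.mul_apply, ← hl, he1, ← Module.End.mul_apply, ← map_mul,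
    mul_comm]
end

end Cfsg.Agent.H41
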